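import Cfsg.Agent.Lib.SylInter.Basic
import Cfsg.Agent.Lib.Coprime.HyperplaneGeneration
import Cfsg.Agent.Lib.StrongCrit.Basic

/-!
The centraliser of an involution of `Ω₁(Z(S))` not normalising `S`, acting on its Sylow 2-subgroups:
the images of the other central involutions are members in the sense of the strong embedding
criterion, so the stabiliser of a point permutes them transitively.
-/

set_option autoImplicit false
set_option linter.style.haveILetI false
set_option linter.unusedSectionVars false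

namespace CfsgLib.SylInter

open Subgroup CfsgLib.Involutions CfsgLib.StrongCrit MulAction

universe u

variable {G : Type u} [Group G]

/-- A 2-element normalising a Sylow 2-subgroup lies in it. -/
theorem mem_sylow_of_normalizer [Finite G] (S : Sylow 2 G) {x : G}
    (hx : ∃ a, orderOf x ∣ 2 ^ a) (hN : x ∈ normalizer ((S : Subgroup G) : Set G)) :
    x ∈ (S : Subgroup G) := by
  haveI : Fact (Nat.Prime 2) := ⟨Nat.prime_two⟩
  obtain ⟨a, ha⟩ := hx
  obtain ⟨b, -, hb⟩ := (Nat.dvd_prime_pow Nat.prime_two).1 ha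
  have h3 : IsPGroup 2 (zpowers x) := IsPGroup.of_card (n := b) (by rw [Nat.card_zpowers, hb])
  have h4 : x ∈ zpowers x ⊓ normalizer (S : Set G) := ⟨mem_zpowers _, hN⟩
  rw [h3.inf_normalizer_sylow S] at h4
  exact h4.2

/-- An element whose square commutes with `e`, acting on `omegaZ S`, commutes with `e`. -/
theorem commute_of_sq [Finite G] {S : Sylow 2 G} {n e : G}
    (hn : n ∈ normalizer ((S : Subgroup G) : Set G)) (he : e ∈ omegaZ S) (h2 : Commute (n ^ 2) e) :
    Commute n e := by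
  haveI : Fact (Nat.Prime 2) := ⟨Nat.prime_two⟩
  obtain ⟨a, m, hm, ham⟩ := Nat.exists_eq_pow_mul_and_not_dvd (orderOf_pos n).ne' 2 (by norm_num)
  have hS : n ^ m ∈ (S : Subgroup G) := mem_sylow_of_normalizer S ⟨a, orderOf_dvd_of_pow_eq_one (by
    rw [← pow_mul, mul_comm, ← ham, pow_orderOf_eq_one])⟩ (pow_mem hn m)
  obtain ⟨j, rfl⟩ : Odd m := Nat.not_even_iff_odd.1 fun h => hm (even_iff_two_dvd.1 h)
  have h3 : Commute (n ^ (2 * j + 1)) e := he.2.2 _ hS
  have h4 : Commute ((n ^ 2) ^ j) e := h2.pow_left j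
  rw [show n = ((n ^ 2) ^ j)⁻¹ * n ^ (2 * j + 1) by rw [← pow_mul, pow_succ, inv_mul_cancel_left]]
  exact h4.inv_left.mul_left h3

/-- An element with 2-power image has a power of 2-power order with the same image. -/
theorem exists_two_lift [Finite G] {H : Type*} [Group H] (f : G →* H) {x : G} {k : ℕ}
    (hk : orderOf (f x) = 2 ^ k) : ∃ j : ℕ, f (x ^ j) = f x ∧ ∃ a : ℕ, orderOf (x ^ j) ∣ 2 ^ a := by
  obtain ⟨a, m, hm, ham⟩ := Nat.exists_eq_pow_mul_and_not_dvd (orderOf_pos x).ne' 2 (by norm_num)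
  have hcop : m.Coprime (2 ^ k) :=
    Nat.Coprime.pow_right k ((Nat.prime_two.coprime_iff_not_dvd.2 hm).symm)
  rcases Nat.eq_zero_or_pos k with rfl | hk0
  · rw [pow_zero, orderOf_eq_one_iff] at hk
    exact ⟨0, by rw [pow_zero, map_one, hk], 0, by simp⟩
  obtain ⟨t, -, ht⟩ := Nat.exists_mul_mod_eq_one_of_coprime hcop (Nat.one_lt_two_pow hk0.ne')
  refine ⟨m * t, ?_, a, orderOf_dvd_of_pow_eq_one ?_⟩
  · rw [map_pow, ← pow_mod_orderOf, hk, ht, pow_one]
  · rw [← pow_mul, show m * t * 2 ^ a = 2 ^ a * m * t by ring, ← ham, pow_mul, pow_orderOf_eq_one,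
      one_pow]

/-- An involution `z` of `omegaZ S` with a four group of `S` avoiding it and a centraliser not
normalising `S`. -/
structure Data (S : Sylow 2 G) (z : G) : Prop where
  inter : RankOneInter G
  mem : z ∈ omegaZ S
  ne : z ≠ 1
  four : ∃ a b : G, a ∈ S ∧ b ∈ S ∧ orderOf a = 2 ∧ orderOf b = 2 ∧ a ≠ b ∧ Commute a b ∧
    a ≠ z ∧ b ≠ z ∧ a * b ≠ z
  notle : ¬ centralizer ({z} : Set G) ≤ normalizer ((S : Subgroup G) : Set G)
  moving : ∀ e ∈ omegaZ S, e ≠ 1 →
    ∃ n ∈ normalizer ((S : Subgroup G) : Set G), n * e * n⁻¹ ≠ e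

variable {S : Sylow 2 G} {z : G}

/-- The centraliser. -/
abbrev Cz (z : G) : Subgroup G := centralizer ({z} : Set G)

/-- The permutation group induced by the centraliser on its Sylow 2-subgroups. -/
abbrev Cbar (z : G) : Subgroup (Equiv.Perm (Sylow 2 (Cz z))) :=
  (toPermHom (Cz z) (Sylow 2 (Cz z))).range

/-- The projection. -/
abbrev proj (z : G) : Cz z →* Cbar z :=
  (toPermHom (Cz z) (Sylow 2 (Cz z))).rangeRestrict

theorem proj_smul (c : Cz z) (T : Sylow 2 (Cz z)) : proj z c • T = c • T := rfl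

theorem proj_surjective : Function.Surjective (proj z) := MonoidHom.rangeRestrict_surjective _

theorem cbar_faithful (g : Cbar z) (h : ∀ T : Sylow 2 (Cz z), g • T = T) : g = 1 :=
  Subtype.ext (Equiv.ext h)

theorem commute_cz (c : Cz z) : Commute (c : G) z := mem_centralizer_singleton_iff.1 c.2

/-- The images of the central involutions other than `z`, and their conjugates. -/
def memb (S : Sylow 2 G) (z : G) : Set (Cbar z) :=
  {x | ∃ c e : Cz z, (e : G) ∈ omegaZ S ∧ (e : G) ≠ 1 ∧ (e : G) ≠ z ∧ proj z (c * e * c⁻¹) = x}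

namespace Data

variable (h : Data S z)
include h

theorem sylow_le : (S : Subgroup G) ≤ Cz z := fun s hs =>
  mem_centralizer_singleton_iff.2 (h.mem.2.2 s hs).eq

/-- The point `S`. -/
noncomputable def pt : Sylow 2 (Cz z) := S.subtype h.sylow_le

theorem omegaZ_le_cz : omegaZ S ≤ Cz z := omegaZ_le.trans h.sylow_le

theorem smul_pt_iff {c : Cz z} :
    c • h.pt = h.pt ↔ (c : G) ∈ normalizer ((S : Subgroup G) : Set G) := by
  refine Iff.trans ?_ (Sylow.smul_eq_iff_mem_normalizer (g := (c : G)) (P := S))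
  rw [pt, Sylow.smul_subtype]
  exact ⟨fun e => Sylow.subtype_injective e, fun e => Sylow.ext (congrArg (fun T : Sylow 2 G => (T : Subgroup G).subgroupOf _) e)⟩

variable [Finite G]

theorem exists_pt (T : Sylow 2 (Cz z)) : ∃ c : Cz z, c • h.pt = T :=
  haveI : Fact (Nat.Prime 2) := ⟨Nat.prime_two⟩
  MulAction.exists_smul_eq (Cz z) h.pt T

/-- A central involution other than `z` fixes only the point `S`. -/
theorem eq_pt {e c : Cz z} (he : (e : G) ∈ omegaZ S) (h1 : (e : G) ≠ 1) (h2 : (e : G) ≠ z)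
    (hfix : e • c • h.pt = c • h.pt) : c • h.pt = h.pt := by
  haveI : Fact (Nat.Prime 2) := ⟨Nat.prime_two⟩
  have hfix' : (c⁻¹ * e * c) • h.pt = h.pt := by
    rw [mul_smul, mul_smul, hfix, inv_smul_smul]
  have hN : ((c : G)⁻¹ * e * c) ∈ normalizer ((S : Subgroup G) : Set G) := by
    simpa using h.smul_pt_iff.1 hfix'
  have ho : orderOf ((c : G)⁻¹ * e * c) = 2 := by
    have := orderOf_conj_eq (c : G)⁻¹ (e : G)
    rw [inv_inv] at this
    exact this.trans (orderOf_of_mem_omegaZ he h1)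
  have hmem : ((c : G)⁻¹ * e * c) ∈ (S : Subgroup G) :=
    mem_sylow_of_normalizer S ⟨1, by rw [ho, pow_one]⟩ hN
  have hzc : z ∈ ((c : G) • S : Sylow 2 G) :=
    CentralSylow.mem_smul_iff.2 (by
      rw [(commute_cz c).inv_left.eq, inv_mul_cancel_right]; exact h.mem.1)
  have hec : (e : G) ∈ ((c : G) • S : Sylow 2 G) := CentralSylow.mem_smul_iff.2 hmem
  have e1 := h.inter.eq_of_two (central2_of_mem_omegaZ h.mem h.ne) (orderOf_of_mem_omegaZ he h1)
    (Ne.symm h2) (commute_of_mem_omegaZ h.mem he) h.mem.1 he.1 hzc hec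
  exact h.smul_pt_iff.2 (Sylow.smul_eq_iff_mem_normalizer.1 e1.symm)

theorem exists_ne_pt : ∃ T : Sylow 2 (Cz z), T ≠ h.pt := by
  obtain ⟨c, hc, hcN⟩ := SetLike.not_le_iff_exists.1 h.notle
  exact ⟨(⟨c, hc⟩ : Cz z) • h.pt, fun e => hcN (h.smul_pt_iff.1 e)⟩

theorem proj_pt {e : Cz z} (he : (e : G) ∈ omegaZ S) : proj z e • h.pt = h.pt := by
  rw [proj_smul]
  exact h.smul_pt_iff.2 (Subgroup.le_normalizer (omegaZ_le he))

theorem proj_z : proj z ⟨z, mem_centralizer_singleton_iff.2 rfl⟩ = 1 := by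
  refine cbar_faithful _ fun T => ?_
  obtain ⟨c, rfl⟩ := h.exists_pt T
  have hcz : (⟨z, mem_centralizer_singleton_iff.2 rfl⟩ : Cz z) * c =
      c * ⟨z, mem_centralizer_singleton_iff.2 rfl⟩ := Subtype.ext (commute_cz c).symm.eq
  rw [proj_smul, smul_smul, hcz, mul_smul,
    h.smul_pt_iff.2 (Subgroup.le_normalizer h.mem.1)]

theorem proj_ne_one {e : Cz z} (he : (e : G) ∈ omegaZ S) (h1 : (e : G) ≠ 1) (h2 : (e : G) ≠ z) :
    proj z e ≠ 1 := by
  intro e1
  obtain ⟨T, hT⟩ := h.exists_ne_pt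
  obtain ⟨c, rfl⟩ := h.exists_pt T
  refine hT (h.eq_pt he h1 h2 ?_)
  rw [← proj_smul, e1, one_smul]

/-- Central involutions with the same image differ by `z`. -/
theorem eq_or_of_proj_eq {e e' : Cz z} (he : (e : G) ∈ omegaZ S) (he' : (e' : G) ∈ omegaZ S)
    (hp : proj z e = proj z e') : (e' : G) = e ∨ (e' : G) = z * e := by
  by_cases h1 : (e' : G) * e = 1
  · exact Or.inl ((eq_inv_of_mul_eq_one_left h1).trans (inv_eq_of_mul_eq_one_right he.2.1))
  by_cases h2 : (e' : G) * e = z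
  · exact Or.inr (calc (e' : G) = e' * (e * e) := by rw [he.2.1, mul_one]
      _ = (e' : G) * e * e := (mul_assoc _ _ _).symm
      _ = z * e := congrArg (· * (e : G)) h2)
  exfalso
  refine h.proj_ne_one (e := e' * e) (mul_mem he' he) h1 h2 ?_
  rw [map_mul, ← hp, ← map_mul, show e * e = 1 from Subtype.ext he.2.1, map_one]

/-- A member fixes exactly one point. -/
theorem memb_fix {c e : Cz z} (he : (e : G) ∈ omegaZ S) (h1 : (e : G) ≠ 1) (h2 : (e : G) ≠ z)
    (T : Sylow 2 (Cz z)) : proj z (c * e * c⁻¹) • T = T ↔ T = c • h.pt := by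
  obtain ⟨d, rfl⟩ := h.exists_pt T
  constructor
  · intro hT
    rw [proj_smul, mul_smul, mul_smul, ← eq_inv_smul_iff] at hT
    have := h.eq_pt (c := c⁻¹ * d) he h1 h2 (by rwa [mul_smul])
    rwa [mul_smul, inv_smul_eq_iff] at this
  · intro hT
    rw [hT, proj_smul, mul_smul, mul_smul, inv_smul_smul, ← proj_smul e, h.proj_pt he]

theorem memb_orderOf {x : Cbar z} (hx : x ∈ memb S z) : orderOf x = 2 := by
  obtain ⟨c, e, he, h1, h2, rfl⟩ := hx
  rw [map_mul, map_mul, map_inv, orderOf_conj_eq, orderOf_eq_two_iff_mul]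
  exact ⟨h.proj_ne_one he h1 h2, by rw [← map_mul, show e * e = 1 from Subtype.ext he.2.1, map_one]⟩

/-- The members fixing `S` come from `omegaZ S`. -/
theorem exists_of_memb_pt {x : Cbar z} (hx : x ∈ memb S z) (hp : x • h.pt = h.pt) :
    ∃ e : Cz z, (e : G) ∈ omegaZ S ∧ (e : G) ≠ 1 ∧ (e : G) ≠ z ∧ proj z e = x := by
  obtain ⟨c, e, he, h1, h2, rfl⟩ := hx
  have hc : c • h.pt = h.pt := ((h.memb_fix he h1 h2 _).1 hp).symm
  refine ⟨c * e * c⁻¹, conj_mem_omegaZ (h.smul_pt_iff.1 hc) he, ?_, ?_, rfl⟩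
  · show (c : G) * e * (c : G)⁻¹ ≠ 1
    simpa using h1
  · show (c : G) * e * (c : G)⁻¹ ≠ z
    intro e1
    refine h2 ?_
    rw [show (e : G) = (c : G)⁻¹ * ((c : G) * e * (c : G)⁻¹) * c by group, e1,
      (commute_cz c).inv_left.eq, inv_mul_cancel_right]

theorem memb_mem {e : Cz z} (he : (e : G) ∈ omegaZ S) (h1 : (e : G) ≠ 1) (h2 : (e : G) ≠ z) :
    proj z e ∈ memb S z := ⟨1, e, he, h1, h2, by simp⟩

theorem memb_conj {x : Cbar z} (g : Cbar z) (hx : x ∈ memb S z) : g * x * g⁻¹ ∈ memb S z := by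
  obtain ⟨c, e, he, h1, h2, rfl⟩ := hx
  obtain ⟨d, rfl⟩ := proj_surjective g
  exact ⟨d * c, e, he, h1, h2, by simp [map_mul, mul_assoc]⟩

/-- Odd subgroups normal in the centraliser centralise `S`. -/
theorem commute_of_odd {O : Subgroup G} (hO : O ≤ Cz z)
    (hn : Cz z ≤ normalizer (O : Set G)) (hodd : Odd (Nat.card O)) {o s : G} (ho : o ∈ O)
    (hs : s ∈ (S : Subgroup G)) : Commute o s := by
  haveI : Fact (Nat.Prime 2) := ⟨Nat.prime_two⟩
  obtain ⟨a, b, haS, hbS, ha, hb, hab, hc, haz, hbz, habz⟩ := h.four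
  set A := closure ({a, b} : Set G) with hA
  have hAS : A ≤ (S : Subgroup G) :=
    (closure_le _).2 (Set.insert_subset haS (Set.singleton_subset_iff.2 hbS))
  haveI : IsMulCommutative A := isMulCommutative_closure fun x hx y hy => by
    rcases hx with rfl | rfl <;> rcases hy with rfl | rfl
    · rfl
    · exact hc.eq
    · exact hc.eq.symm
    · rfl
  have hcases : ∀ x ∈ A, x = 1 ∨ x = a ∨ x = b ∨ x = a * b := by
    intro x hx
    induction hx using closure_induction with
    | mem y hy => rcases hy with rfl | rfl <;> tauto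
    | one => exact Or.inl rfl
    | mul y w _ _ hy hw =>
      have ea := mul_self_eq_one ha
      have eb := mul_self_eq_one hb
      have eba : b * a = a * b := hc.eq.symm
      have e3 : a * (a * b) = b := by rw [← mul_assoc, ea, one_mul]
      have e4 : b * (a * b) = a := by rw [← mul_assoc, eba, mul_assoc, eb, mul_one]
      have e5 : a * b * a = b := by rw [mul_assoc, eba, e3]
      have e6 : a * b * b = a := by rw [mul_assoc, eb, mul_one]
      have e7 : a * b * (a * b) = 1 := by rw [← mul_assoc, e5, eb]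
      rcases hy with rfl | rfl | rfl | rfl <;> rcases hw with rfl | rfl | rfl | rfl <;>
        simp [ea, eb, eba, e3, e4, e5, e6, e7]
    | inv y _ hy =>
      rcases hy with rfl | rfl | rfl | rfl
      · exact Or.inl inv_one
      · exact Or.inr (Or.inl (inv_eq_self_of_involution ha))
      · exact Or.inr (Or.inr (Or.inl (inv_eq_self_of_involution hb)))
      · refine Or.inr (Or.inr (Or.inr ?_))
        rw [mul_inv_rev, inv_eq_self_of_involution ha, inv_eq_self_of_involution hb, hc.eq]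
  have hab2 : orderOf (a * b) = 2 := orderOf_eq_two_iff_mul.2 ⟨fun e => hab (by
    rw [mul_eq_one_iff_eq_inv, inv_eq_self_of_involution hb] at e; exact e), by
    rw [← pow_two, hc.mul_pow, pow_two, pow_two, mul_self_eq_one ha, mul_self_eq_one hb, one_mul]⟩
  have hsq : ∀ x ∈ A, x ^ 2 = 1 := by
    intro x hx
    rcases hcases x hx with rfl | rfl | rfl | rfl
    · exact one_pow 2
    · rw [pow_two, mul_self_eq_one ha]
    · rw [pow_two, mul_self_eq_one hb]
    · rw [pow_two, mul_self_eq_one hab2]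
  have hA1 : A ≠ ⊥ := fun e => ne_one_of_involution ha (by
    rw [← mem_bot, ← e]; exact subset_closure (Set.mem_insert _ _))
  have hgen := Coprime39.eq_hyperCent (p := 2) (A := A) (X := O) ⟨inferInstance, hsq⟩ hA1
    (Nat.coprime_two_right.2 hodd) (hAS.trans (h.sylow_le.trans hn))
  have hON : O ≤ normalizer ((S : Subgroup G) : Set G) := by
    rw [← hgen]
    refine iSup_le fun B => ?_
    obtain ⟨x, hxB, hx1⟩ : ∃ x ∈ (B : Subgroup G), x ≠ 1 := by
      by_contra hcon
      push Not at hcon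
      have h2 := B.2.2
      rw [(eq_bot_iff_forall _).2 hcon, relIndex_bot_left, hA, card_closure_pair_four ha hb hab hc] at h2
      omega
    rintro o ⟨ho, hoB⟩
    have hxA := B.2.1 hxB
    obtain ⟨hx2, hxz⟩ : orderOf x = 2 ∧ x ≠ z := by
      rcases hcases x hxA with rfl | rfl | rfl | rfl
      · exact absurd rfl hx1
      · exact ⟨ha, haz⟩
      · exact ⟨hb, hbz⟩
      · exact ⟨hab2, habz⟩
    exact h.inter.mem_normalizer_of_commute h.mem h.ne (hAS hxA) hx2 hxz.symm
      (mem_centralizer_singleton_iff.1 (hO ho)) (mem_centralizer_iff.1 hoB x hxB).symm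
  have hsN : s ∈ normalizer (O : Set G) := hn (h.sylow_le hs)
  have hdis : O ⊓ (S : Subgroup G) = ⊥ := by
    obtain ⟨k, hk⟩ := IsPGroup.iff_card.1 S.isPGroup'
    exact inf_eq_bot_of_coprime (by rw [hk]; exact (Nat.coprime_two_right.2 hodd).pow_right k)
  have hmem : o * s * o⁻¹ * s⁻¹ ∈ O ⊓ (S : Subgroup G) := ⟨by
      rw [show o * s * o⁻¹ * s⁻¹ = o * (s * o⁻¹ * s⁻¹) by group]
      exact O.mul_mem ho ((mem_normalizer_iff.1 hsN _).1 (O.inv_mem ho)),
    (S : Subgroup G).mul_mem ((mem_normalizer_iff.1 (hON ho) s).1 hs) ((S : Subgroup G).inv_mem hs)⟩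
  rw [hdis, mem_bot, mul_inv_eq_one, mul_inv_eq_iff_eq_mul] at hmem
  exact hmem

/-- Conjugation by an element of the stabiliser of `S` does not interchange `e` and `z * e`. -/
theorem conj_ne_mul {n e : G} (hn : n ∈ normalizer ((S : Subgroup G) : Set G)) (hnz : Commute n z)
    (he : e ∈ omegaZ S) : n * e * n⁻¹ ≠ z * e := by
  intro e1
  have h2 : Commute (n ^ 2) e := by
    have : n ^ 2 * e * (n ^ 2)⁻¹ = e := by
      calc n ^ 2 * e * (n ^ 2)⁻¹ = n * (n * e * n⁻¹) * n⁻¹ := by rw [pow_two]; group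
        _ = n * (z * e) * n⁻¹ := by rw [e1]
        _ = (n * z * n⁻¹) * (n * e * n⁻¹) := by group
        _ = e := by rw [e1, hnz.eq, mul_inv_cancel_right, ← mul_assoc, h.mem.2.1, one_mul]
    exact mul_inv_eq_iff_eq_mul.1 this
  have h3 := commute_of_sq hn he h2
  rw [h3.eq, mul_inv_cancel_right] at e1
  exact h.ne (mul_eq_right.1 e1.symm)

theorem exists_avoid_two : ∃ y ∈ omegaZ S, y ≠ 1 ∧ y ≠ z := by
  obtain ⟨n, hn, hne⟩ := h.moving z h.mem h.ne
  exact ⟨_, conj_mem_omegaZ hn h.mem, fun e => h.ne (by simpa using e), hne⟩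

/-- Some central involution of `S` lies outside any given four group containing `z`. -/
theorem exists_avoid (y : G) : ∃ e ∈ omegaZ S, e ≠ 1 ∧ e ≠ z ∧ e ≠ y ∧ e ≠ z * y := by
  haveI : Fact (Nat.Prime 2) := ⟨Nat.prime_two⟩
  by_contra hcon
  have hcov : ∀ e ∈ omegaZ S, e = 1 ∨ e = z ∨ e = y ∨ e = z * y := fun e he => by
    by_contra hc
    push Not at hc
    exact hcon ⟨e, he, hc⟩
  obtain ⟨w, hw, hw1, hwz⟩ := h.exists_avoid_two
  have hcov' : ∀ e ∈ omegaZ S, e = 1 ∨ e = z ∨ e = w ∨ e = z * w := by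
    have hzz : ∀ a : G, z * (z * a) = a := fun a => by rw [← mul_assoc, h.mem.2.1, one_mul]
    intro e he
    rcases hcov w hw with rfl | rfl | rfl | hwy
    · exact absurd rfl hw1
    · exact absurd rfl hwz
    · exact hcov e he
    · rw [hwy, hzz]
      rcases hcov e he with h0 | h0 | h0 | h0 <;> tauto
  -- `w` is central in the centraliser
  have hiso : ∀ g : Cz z, Commute w ((g : G) * w * (g : G)⁻¹) → (g : G) * w * (g : G)⁻¹ = w := by
    intro g hg
    set w' := (g : G) * w * (g : G)⁻¹ with hw'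
    have hw2 := orderOf_of_mem_omegaZ hw hw1
    have hzw' : Commute z w' := by
      have := (commute_of_mem_omegaZ h.mem hw).map (MulAut.conj (g : G)).toMonoidHom
      simpa [MulAut.conj_apply, (commute_cz g).eq] using this
    obtain ⟨j, -, hj⟩ := (Nat.dvd_prime_pow Nat.prime_two).mp
      (show orderOf (w * w') ∣ 2 ^ 1 by
        refine orderOf_dvd_of_pow_eq_one ?_
        rw [pow_one, hg.mul_pow, pow_two, pow_two, hw.2.1, hw', conj_mul, hw.2.1, mul_one,
          mul_inv_cancel, one_mul])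
    obtain ⟨R, hRC, hPR⟩ := CentralSylow.exists_sylow_le_of h.sylow_le
      (isPGroup_two_closure_pair hw2 ((orderOf_conj_eq (g : G) w).trans hw2) (k := j) hj)
      ((closure_le _).2 (Set.insert_subset (h.omegaZ_le_cz hw)
        (Set.singleton_subset_iff.2 (mem_centralizer_singleton_iff.2 hzw'.eq.symm))))
    have hzR : z ∈ R := by
      obtain ⟨k, hk, hkR⟩ := CentralSylow.exists_smul_eq_in h.sylow_le hRC
      rw [← hkR]
      refine CentralSylow.mem_smul_iff.2 ?_
      rw [(show Commute k z from mem_centralizer_singleton_iff.1 hk).inv_left.eq, inv_mul_cancel_right]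
      exact h.mem.1
    have hSR : S = R := h.inter.eq_of_two (central2_of_mem_omegaZ h.mem h.ne) hw2 (Ne.symm hwz)
      (commute_of_mem_omegaZ h.mem hw) h.mem.1 hw.1 hzR (hPR (subset_closure (Set.mem_insert _ _)))
    subst hSR
    have hw'S : w' ∈ (S : Subgroup G) := hPR (subset_closure (Set.mem_insert_of_mem _ rfl))
    have hw'Z : w' ∈ omegaZ S := h.inter.mem_omegaZ ((central2_of_mem_omegaZ hw hw1).conj g) hw'S
    have hgN : (g : G) ∈ normalizer ((S : Subgroup G) : Set G) := by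
      have e1 := h.inter.eq_of_two (T := (g : G) • S) (central2_of_mem_omegaZ h.mem h.ne)
        ((orderOf_conj_eq (g : G) w).trans hw2)
        (fun e => hwz (by
          rw [show w = (g : G)⁻¹ * ((g : G) * w * (g : G)⁻¹) * g by group, ← e,
            (commute_cz g).inv_left.eq, inv_mul_cancel_right]))
        hzw' h.mem.1 hw'S
        (CentralSylow.mem_smul_iff.2 (by
          rw [(commute_cz g).inv_left.eq, inv_mul_cancel_right]; exact h.mem.1))
        (CentralSylow.conj_mem_smul hw.1)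
      exact Sylow.smul_eq_iff_mem_normalizer.1 e1.symm
    rcases hcov' _ hw'Z with e | e | e | e
    · exact absurd e (by simpa [hw'] using hw1)
    · exact absurd (show w = z by
        rw [show w = (g : G)⁻¹ * w' * g by rw [hw']; group, e, (commute_cz g).inv_left.eq,
          inv_mul_cancel_right]) hwz
    · exact e
    · exact absurd e (h.conj_ne_mul hgN (commute_cz g) hw)
  set w₀ : Cz z := ⟨w, h.omegaZ_le_cz hw⟩ with hw₀
  have hisoC : Cfsg.IsIsolatedInvolution w₀ :=
    ⟨by rw [hw₀, Subgroup.orderOf_mk]; exact orderOf_of_mem_omegaZ hw hw1,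
      fun g hg => Subtype.ext (hiso g (congrArg Subtype.val hg))⟩
  set O := (Cfsg.pPrimeCore 2 (Cz z)).map (Cz z).subtype with hO
  have hOn : Cz z ≤ normalizer (O : Set G) := by
    intro g hg
    refine mem_normalizer_iff.2 fun x => ?_
    have key : ∀ (c : Cz z) (x : G), x ∈ O → (c : G) * x * (c : G)⁻¹ ∈ O := by
      rintro c _ ⟨o, ho, rfl⟩
      exact ⟨c * o * c⁻¹, (Cfsg.pPrimeCore_normal 2 (Cz z)).conj_mem o ho c, rfl⟩
    refine ⟨key ⟨g, hg⟩ x, fun hx => ?_⟩
    simpa [mul_assoc] using key (⟨g, hg⟩ : Cz z)⁻¹ _ hx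
  have hOodd : Odd (Nat.card O) := by
    rw [hO, card_subtype, ← Nat.not_even_iff_odd, even_iff_two_dvd]
    exact PCore.not_dvd_card_pPrimeCore
  have hwc : ∀ g : Cz z, Commute (g : G) w := by
    intro g
    set k := (g : G) * w * (g : G)⁻¹ * w⁻¹ with hk
    have hkO : k ∈ O := ⟨_, zstar (Cz z) w₀ hisoC g, rfl⟩
    have hkw : Commute k w := h.commute_of_odd (map_subtype_le _) hOn hOodd hkO hw.1
    have hk2 : k * k = 1 := by
      have hq : k * w * (k * w) = 1 := by
        rw [hk, inv_mul_cancel_right, conj_mul, hw.2.1, mul_one, mul_inv_cancel]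
      rwa [show k * w * (k * w) = k * (w * k) * w by group, ← hkw.eq,
        show k * (k * w) * w = k * k * (w * w) by group, hw.2.1, mul_one] at hq
    have hk1 : k = 1 := by
      have h1 := Subgroup.orderOf_dvd_natCard O hkO
      by_contra hne
      rw [orderOf_eq_two_iff_mul.2 ⟨hne, hk2⟩] at h1
      exact hOodd.not_two_dvd_nat h1
    rw [hk, mul_inv_eq_one, mul_inv_eq_iff_eq_mul] at hk1
    exact hk1
  exact h.notle fun g hg => h.inter.mem_normalizer_of_commute h.mem h.ne hw.1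
    (orderOf_of_mem_omegaZ hw hw1) (Ne.symm hwz) (mem_centralizer_singleton_iff.1 hg) (hwc ⟨g, hg⟩)

/-- The setting of the criterion on the Sylow subgroups of the centraliser. -/
theorem setting : Setting (G := Cbar z) (Sylow 2 (Cz z)) (memb S z) := by
  haveI : Fact (Nat.Prime 2) := ⟨Nat.prime_two⟩
  obtain ⟨y, hy, hy1, hyz, -⟩ := h.exists_avoid 1
  have huniq : ∀ x ∈ memb S z, ∀ T U : Sylow 2 (Cz z), x • T = T → x • U = U → T = U := by
    rintro _ ⟨c, e, he, h1, h2, rfl⟩ T U hT hU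
    rw [(h.memb_fix he h1 h2 T).1 hT, (h.memb_fix he h1 h2 U).1 hU]
  refine ⟨fun x hx => h.memb_orderOf hx, fun g x hx => h.memb_conj g hx, fun T U => ?_, fun T => ?_,
    ?_, huniq, ?_, ?_⟩
  · obtain ⟨c, hc⟩ := MulAction.exists_smul_eq (Cz z) T U
    exact ⟨proj z c, by rw [proj_smul, hc]⟩
  · obtain ⟨U, hU⟩ := h.exists_ne_pt
    by_contra hcon
    push Not at hcon
    exact hU ((hcon U).trans (hcon h.pt).symm)
  · rintro _ ⟨c, e, he, h1, h2, rfl⟩
    exact ⟨c • h.pt, (h.memb_fix he h1 h2 _).2 rfl⟩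
  · intro s hs t ht hst hne x x' hx hx'
    obtain ⟨c, e, he, h1, h2, rfl⟩ := hs
    have hp : t • c • h.pt = c • h.pt := by
      refine (h.memb_fix he h1 h2 _).1 ?_
      rw [smul_smul, hst.eq, mul_smul, (h.memb_fix he h1 h2 _).2 rfl]
    -- move to the point `S`
    have ht' : (proj z c)⁻¹ * t * proj z c ∈ memb S z := by
      simpa using h.memb_conj (proj z c)⁻¹ ht
    obtain ⟨f, hf, hf1, hf2, hft⟩ := h.exists_of_memb_pt ht' (by
      rw [mul_smul, mul_smul, proj_smul, hp, ← proj_smul, inv_smul_smul])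
    have hprod : proj z (c * e * c⁻¹) * t = proj z (c * (e * f) * c⁻¹) := by
      simp only [map_mul, map_inv]
      rw [hft]
      group
    rw [hprod] at hx hx'
    have hef1 : (e : G) * f ≠ 1 := fun e1 => hne (by
      have hfe : proj z f = proj z e := by
        rw [show f = e from Subtype.ext
          ((eq_inv_of_mul_eq_one_right e1).trans (inv_eq_of_mul_eq_one_right he.2.1))]
      rw [hfe] at hft
      simp only [map_mul, map_inv]
      rw [hft]
      group)
    have hef2 : (e : G) * f ≠ z := fun e1 => hne (by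
      have hfe : proj z f = proj z e := by
        have : proj z e * proj z f = 1 := by
          rw [← map_mul, show e * f = ⟨z, mem_centralizer_singleton_iff.2 rfl⟩ from Subtype.ext e1,
            h.proj_z]
        rw [← inv_eq_of_mul_eq_one_right this, ← map_inv,
          show e⁻¹ = e from Subtype.ext (inv_eq_of_mul_eq_one_right he.2.1)]
      rw [hfe] at hft
      simp only [map_mul, map_inv]
      rw [hft]
      group)
    have hmem : (e * f : Cz z).1 ∈ omegaZ S := mul_mem he hf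
    rw [(h.memb_fix hmem hef1 hef2 x).1 hx, (h.memb_fix hmem hef1 hef2 x').1 hx']
  · intro T P hP hPT
    obtain ⟨c, rfl⟩ := h.exists_pt T
    refine ⟨proj z (c * ⟨y, h.omegaZ_le_cz hy⟩ * c⁻¹), ⟨c, _, hy, hy1, hyz, rfl⟩,
      (h.memb_fix hy hy1 hyz _).2 rfl, fun g hg => ?_⟩
    obtain ⟨k, hk⟩ := IsPGroup.iff_orderOf.1 hP ⟨g, hg⟩
    rw [← Subgroup.orderOf_coe] at hk
    obtain ⟨d, rfl⟩ := proj_surjective g
    obtain ⟨j, hj, a, ha⟩ := exists_two_lift (proj z) hk
    have hfix : (c⁻¹ * d ^ j * c) • h.pt = h.pt := by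
      have := hPT hg
      rw [mem_stabilizer_iff, ← hj, proj_smul] at this
      rw [mul_smul, mul_smul, this, inv_smul_smul]
    have hS : ((c : G)⁻¹ * (d ^ j : Cz z) * c) ∈ (S : Subgroup G) := by
      have ho : orderOf ((c : G)⁻¹ * (d ^ j : Cz z) * c) ∣ 2 ^ a := by
        have e1 := orderOf_conj_eq (c : G)⁻¹ ((d ^ j : Cz z) : G)
        rw [inv_inv] at e1
        rw [e1, Subgroup.orderOf_coe]
        exact ha
      exact mem_sylow_of_normalizer S ⟨a, ho⟩ (by simpa using h.smul_pt_iff.1 hfix)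
    have hcomm : Commute (c⁻¹ * d ^ j * c) (⟨y, h.omegaZ_le_cz hy⟩ : Cz z) :=
      Subtype.ext (hy.2.2 _ (by simpa using hS)).eq
    rw [← hj]
    have := (hcomm.map (MulAut.conj c).toMonoidHom).map (proj z)
    simpa [MulAut.conj_apply, mul_assoc] using this

/-- The stabiliser of `S` is transitive on the central involutions modulo `z`. -/
theorem transitive {e f : G} (he : e ∈ omegaZ S) (he1 : e ≠ 1) (hez : e ≠ z) (hf : f ∈ omegaZ S)
    (hf1 : f ≠ 1) (hfz : f ≠ z) :
    ∃ n ∈ normalizer ((S : Subgroup G) : Set G), Commute n z ∧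
      (n * e * n⁻¹ = f ∨ n * e * n⁻¹ = z * f) := by
  set e₀ : Cz z := ⟨e, h.omegaZ_le_cz he⟩
  set f₀ : Cz z := ⟨f, h.omegaZ_le_cz hf⟩
  obtain ⟨g, hg, hgs⟩ := h.setting.exists_conj_memAt (c := h.pt) (s := proj z e₀) (t := proj z f₀)
    ⟨h.memb_mem (e := e₀) he he1 hez, h.proj_pt (e := e₀) he⟩
    ⟨h.memb_mem (e := f₀) hf hf1 hfz, h.proj_pt (e := f₀) hf⟩
  obtain ⟨d, rfl⟩ := proj_surjective g
  have hd : (d : G) ∈ normalizer ((S : Subgroup G) : Set G) :=
    h.smul_pt_iff.1 (by rwa [mem_stabilizer_iff, proj_smul] at hg)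
  refine ⟨d, hd, commute_cz d, ?_⟩
  rw [← map_inv, ← map_mul, ← map_mul] at hgs
  exact h.eq_or_of_proj_eq (e := f₀) (e' := d * e₀ * d⁻¹) hf (conj_mem_omegaZ hd he) hgs.symm

end Data

end CfsgLib.SylInter
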