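import Cfsg.Agent.Lib.Involutions.BrauerSuzuki
import Cfsg.Agent.Lib.CentralSylow.Basic
import Cfsg.Prelude.Def_CaseTheorems

/-!
Groups in which a Klein four-group and an involution central in some Sylow 2-subgroup lie in one Sylow
2-subgroup only: the 2-central involutions of a Sylow 2-subgroup are central in it, and its normaliser
controls their fusion.
-/

set_option autoImplicit false
set_option linter.style.haveILetI false
set_option linter.unusedSectionVars false

namespace CfsgLib.SylInter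

open Subgroup CfsgLib.Involutions

universe u

variable {G : Type u} [Group G]

/-- An involution central in some Sylow 2-subgroup. -/
def Central2 (x : G) : Prop :=
  orderOf x = 2 ∧ ∃ U : Sylow 2 G, x ∈ U ∧ ∀ u ∈ U, Commute u x

/-- A 2-central involution and a Klein four-group lie together in one Sylow 2-subgroup only. -/
def RankOneInter (G : Type u) [Group G] : Prop :=
  ∀ (S T : Sylow 2 G) (z s t : G), Central2 z → orderOf s = 2 → orderOf t = 2 → s ≠ t → Commute s t →
    z ∈ S → s ∈ S → t ∈ S → z ∈ T → s ∈ T → t ∈ T → S = T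

theorem Central2.conj {x : G} (h : Central2 x) (g : G) : Central2 (g * x * g⁻¹) := by
  obtain ⟨h2, U, hxU, hU⟩ := h
  refine ⟨(orderOf_conj_eq g x).trans h2, g • U, CentralSylow.conj_mem_smul hxU, fun u hu => ?_⟩
  have h1 := (hU _ (CentralSylow.mem_smul_iff.1 hu)).map (MulAut.conj g).toMonoidHom
  simpa [MulAut.conj_apply, mul_assoc] using h1

theorem card_closure_pair_four {s t : G} (hs : orderOf s = 2) (ht : orderOf t = 2) (hne : s ≠ t)
    (hc : Commute s t) [Finite G] : Nat.card (closure ({s, t} : Set G)) = 4 := by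
  rw [card_closure_pair hs ht]
  have : orderOf (s * t) = 2 := orderOf_eq_two_iff_mul.2 ⟨fun e => hne (by
    rw [mul_eq_one_iff_eq_inv, inv_eq_self_of_involution ht] at e; exact e), by
    rw [show s * t * (s * t) = s * (t * s) * t by group, ← hc.eq,
      show s * (s * t) * t = s * s * (t * t) by group, mul_self_eq_one hs, mul_self_eq_one ht,
      one_mul]⟩
  omega

/-- The hypothesis of 2-rank one on the central intersections. -/
theorem rankOneInter_of_prankLE [Finite G]
    (h : ∀ S T : Sylow 2 G, S ≠ T →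
      ((S : Subgroup G) ⊓ (T : Subgroup G) = ⊥ ∨
        ∃ z ∈ (S : Subgroup G) ⊓ (T : Subgroup G), orderOf z = 2 ∧
          ∃ U : Sylow 2 G, z ∈ (Subgroup.center ↥(U : Subgroup G)).map (U : Subgroup G).subtype) →
      Cfsg.PRankLE 2 1 ↥((S : Subgroup G) ⊓ (T : Subgroup G))) :
    RankOneInter G := by
  intro S T z s t hz hs ht hne hc hzS hsS htS hzT hsT htT
  by_contra hST
  obtain ⟨U, hzU, hU⟩ := hz.2
  have hr := h S T hST (Or.inr ⟨z, ⟨hzS, hzT⟩, hz.1, U, ⟨⟨z, hzU⟩,
    mem_center_iff.2 fun u => Subtype.ext (hU u u.2).eq, rfl⟩⟩)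
  set A := closure ({s, t} : Set G) with hA
  have hle : A ≤ (S : Subgroup G) ⊓ (T : Subgroup G) :=
    (closure_le _).2 (Set.insert_subset ⟨hsS, hsT⟩ (Set.singleton_subset_iff.2 ⟨htS, htT⟩))
  haveI : IsMulCommutative A := isMulCommutative_closure fun a ha b hb => by
    rcases ha with rfl | rfl <;> rcases hb with rfl | rfl
    · rfl
    · exact hc.eq
    · exact hc.eq.symm
    · rfl
  have hsq : ∀ a ∈ A, a * a = 1 := by
    intro a ha
    induction ha using closure_induction with
    | mem x hx =>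
      rcases hx with rfl | rfl
      · exact mul_self_eq_one hs
      · exact mul_self_eq_one ht
    | one => exact one_mul 1
    | mul x y hx hy ihx ihy =>
      have e : x * y = y * x := setLike_mul_comm hx hy
      calc x * y * (x * y) = x * (y * x) * y := by group
        _ = x * x * (y * y) := by rw [← e]; group
        _ = 1 := by rw [ihx, ihy, one_mul]
    | inv x _ ihx => rw [← mul_inv_rev, ihx, inv_one]
  have := hr (A.subgroupOf _) ⟨⟨fun a b => Subtype.ext (Subtype.ext (setLike_mul_comm (mem_subgroupOf.1 a.2) (mem_subgroupOf.1 b.2)))⟩⟩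
    (fun a ha => Subtype.ext (by rw [pow_two]; exact hsq _ ha))
  rw [Nat.card_congr (subgroupOfEquivOfLe hle).toEquiv, hA, card_closure_pair_four hs ht hne hc] at this
  omega

/-- `Ω₁(Z(S))`. -/
def omegaZ (S : Sylow 2 G) : Subgroup G where
  carrier := {x | x ∈ (S : Subgroup G) ∧ x * x = 1 ∧ ∀ s ∈ (S : Subgroup G), Commute s x}
  one_mem' := ⟨one_mem _, one_mul 1, fun _ _ => Commute.one_right _⟩
  mul_mem' := by
    rintro a b ⟨ha, ha2, hac⟩ ⟨hb, hb2, hbc⟩
    refine ⟨mul_mem ha hb, ?_, fun s hs => (hac s hs).mul_right (hbc s hs)⟩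
    calc a * b * (a * b) = a * (b * a) * b := by group
      _ = a * a * (b * b) := by rw [(hac b hb).eq]; group
      _ = 1 := by rw [ha2, hb2, one_mul]
  inv_mem' := by
    rintro a ⟨ha, ha2, hac⟩
    exact ⟨inv_mem ha, by rw [← mul_inv_rev, ha2, inv_one], fun s hs => (hac s hs).inv_right⟩

variable {S : Sylow 2 G}

theorem mem_omegaZ {x : G} : x ∈ omegaZ S ↔
    x ∈ (S : Subgroup G) ∧ x * x = 1 ∧ ∀ s ∈ (S : Subgroup G), Commute s x := Iff.rfl

theorem omegaZ_le : omegaZ S ≤ (S : Subgroup G) := fun _ h => h.1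

theorem orderOf_of_mem_omegaZ {x : G} (hx : x ∈ omegaZ S) (h1 : x ≠ 1) : orderOf x = 2 :=
  orderOf_eq_two_iff_mul.2 ⟨h1, hx.2.1⟩

theorem central2_of_mem_omegaZ {x : G} (hx : x ∈ omegaZ S) (h1 : x ≠ 1) : Central2 x :=
  ⟨orderOf_of_mem_omegaZ hx h1, S, hx.1, hx.2.2⟩

theorem commute_of_mem_omegaZ {x y : G} (hx : x ∈ omegaZ S) (hy : y ∈ omegaZ S) : Commute x y :=
  hy.2.2 x hx.1

/-- An element of the normaliser moves `omegaZ S` to itself. -/
theorem conj_mem_omegaZ {n x : G} (hn : n ∈ normalizer ((S : Subgroup G) : Set G))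
    (hx : x ∈ omegaZ S) : n * x * n⁻¹ ∈ omegaZ S := by
  refine ⟨(mem_normalizer_iff.1 hn x).1 hx.1, by rw [conj_mul, hx.2.1, mul_one, mul_inv_cancel], fun s hs => ?_⟩
  have h1 : n⁻¹ * s * n ∈ (S : Subgroup G) := by
    have := (mem_normalizer_iff.1 (inv_mem hn) s).1 hs
    simpa using this
  have h2 := (hx.2.2 _ h1).map (MulAut.conj n).toMonoidHom
  simpa [MulAut.conj_apply, mul_assoc] using h2

variable [Finite G]

/-- Two commuting involutions, one of which is 2-central, lie in one Sylow 2-subgroup. -/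
theorem RankOneInter.eq_of_two (hR : RankOneInter G) {T : Sylow 2 G} {z s : G} (hz : Central2 z)
    (hs : orderOf s = 2) (hne : z ≠ s) (hc : Commute z s) (hzS : z ∈ S) (hsS : s ∈ S) (hzT : z ∈ T)
    (hsT : s ∈ T) : S = T :=
  hR S T z z s hz hz.1 hs hne hc hzS hzS hsS hzT hzT hsT

/-- The elements commuting with a four group containing a 2-central involution normalise `S`. -/
theorem RankOneInter.mem_normalizer_of_commute (hR : RankOneInter G) {z s c : G} (hz : z ∈ omegaZ S)
    (h1 : z ≠ 1) (hs : s ∈ S) (hs2 : orderOf s = 2) (hne : z ≠ s) (hcz : Commute c z)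
    (hcs : Commute c s) : c ∈ normalizer ((S : Subgroup G) : Set G) := by
  have e : c • S = S := (hR.eq_of_two (central2_of_mem_omegaZ hz h1) hs2 hne (hz.2.2 s hs).symm
    hz.1 hs (CentralSylow.mem_smul_iff.2 (by rw [hcz.inv_left.eq, inv_mul_cancel_right]; exact hz.1))
    (CentralSylow.mem_smul_iff.2 (by rw [hcs.inv_left.eq, inv_mul_cancel_right]; exact hs))).symm
  exact Sylow.smul_eq_iff_mem_normalizer.1 e

/-- A 2-central involution of `S` is central in `S`, given some involution in the centre of `S`. -/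
theorem RankOneInter.mem_omegaZ (hR : RankOneInter G) {f : G} (hf : Central2 f) (hfS : f ∈ S) :
    f ∈ omegaZ S := by
  haveI : Fact (Nat.Prime 2) := ⟨Nat.prime_two⟩
  have hf2 := hf.1
  obtain ⟨z, hz, hz1⟩ : ∃ z ∈ omegaZ S, z ≠ 1 := by
    have hne : Nontrivial (S : Subgroup G) := ⟨⟨⟨f, hfS⟩, 1, fun h =>
      ne_one_of_involution hf2 (congrArg Subtype.val h)⟩⟩
    have hcn := S.2.center_nontrivial
    obtain ⟨c, hc⟩ := exists_prime_orderOf_dvd_card' (G := Subgroup.center (S : Subgroup G)) 2 (by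
      obtain ⟨j, hj⟩ := IsPGroup.iff_card.mp (S.2.to_subgroup (Subgroup.center (S : Subgroup G)))
      rcases j with _ | j
      · rw [pow_zero] at hj
        exact absurd hj (ne_of_gt Finite.one_lt_card)
      · exact hj ▸ dvd_pow_self 2 (Nat.succ_ne_zero j))
    rw [← orderOf_coe, ← orderOf_coe] at hc
    exact ⟨_, ⟨(c : (S : Subgroup G)).2, mul_self_eq_one hc, fun s hs =>
      congrArg Subtype.val (mem_center_iff.1 c.2 ⟨s, hs⟩)⟩, ne_one_of_involution hc⟩
  rcases eq_or_ne z f with rfl | hne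
  · exact hz
  obtain ⟨-, U, hfU, hU⟩ := id hf
  have hUC : (U : Subgroup G) ≤ centralizer ({f} : Set G) := fun u hu =>
    mem_centralizer_singleton_iff.2 (hU u hu).eq
  have hcomm : Commute f z := hz.2.2 f hfS
  have hP : IsPGroup 2 (closure ({z, f} : Set G)) :=
    S.2.to_le ((closure_le _).2 (Set.insert_subset hz.1 (Set.singleton_subset_iff.2 hfS)))
  obtain ⟨R, hRC, hPR⟩ := CentralSylow.exists_sylow_le_of hUC hP ((closure_le _).2
    (Set.insert_subset (mem_centralizer_singleton_iff.2 hcomm.symm.eq)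
      (Set.singleton_subset_iff.2 (mem_centralizer_singleton_iff.2 rfl))))
  have hSR : S = R := hR.eq_of_two (central2_of_mem_omegaZ hz hz1) hf2 hne hcomm.symm hz.1 hfS
    (hPR (subset_closure (Set.mem_insert _ _)))
    (hPR (subset_closure (Set.mem_insert_of_mem _ rfl)))
  subst hSR
  exact ⟨hfS, mul_self_eq_one hf2, fun s hs => mem_centralizer_singleton_iff.1 (hRC hs)⟩

/-- The normaliser of `S` controls the fusion of its central involutions. -/
theorem RankOneInter.exists_normalizer (hR : RankOneInter G) {e g : G} (he : e ∈ omegaZ S)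
    (h1 : e ≠ 1) (hg : g * e * g⁻¹ ∈ S) :
    g * e * g⁻¹ ∈ omegaZ S ∧
      ∃ n ∈ normalizer ((S : Subgroup G) : Set G), n * e * n⁻¹ = g * e * g⁻¹ := by
  set f := g * e * g⁻¹ with hfdef
  have hfZ := hR.mem_omegaZ ((central2_of_mem_omegaZ he h1).conj g) hg
  have hSC : (S : Subgroup G) ≤ centralizer ({f} : Set G) := fun s hs =>
    mem_centralizer_singleton_iff.2 (hfZ.2.2 s hs).eq
  have hTC : ((g • S : Sylow 2 G) : Subgroup G) ≤ centralizer ({f} : Set G) := fun s hs => by
    refine mem_centralizer_singleton_iff.2 ?_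
    have h2 := (he.2.2 _ (CentralSylow.mem_smul_iff.1 hs)).map (MulAut.conj g).toMonoidHom
    have h3 : Commute s f := by simpa [hfdef, MulAut.conj_apply, mul_assoc] using h2
    exact h3.eq
  obtain ⟨k, hk, hkS⟩ := CentralSylow.exists_smul_eq_in hTC hSC
  refine ⟨hfZ, k * g, Sylow.smul_eq_iff_mem_normalizer.1 (by rw [mul_smul, hkS]), ?_⟩
  have hk' : Commute k f := mem_centralizer_singleton_iff.1 hk
  calc k * g * e * (k * g)⁻¹ = k * f * k⁻¹ := by rw [hfdef]; group
    _ = f := by rw [hk'.eq, mul_inv_cancel_right]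

theorem oddCore_eq_bot [IsSimpleGroup G] {t : G} (ht : orderOf t = 2) :
    Cfsg.pPrimeCore 2 G = ⊥ := by
  haveI : Fact (Nat.Prime 2) := ⟨Nat.prime_two⟩
  rcases Subgroup.Normal.eq_bot_or_eq_top (Cfsg.pPrimeCore_normal 2 G) with h | h
  · exact h
  · exfalso
    refine PCore.not_dvd_card_pPrimeCore (p := 2) (G := G) ?_
    rw [h, Subgroup.card_top, ← ht]
    exact orderOf_dvd_natCard t

/-- No central involution of `S` is fixed by its normaliser. -/
theorem RankOneInter.exists_moving [IsSimpleGroup G] (hR : RankOneInter G)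
    (hG : ¬ IsMulCommutative G) {e : G} (he : e ∈ omegaZ S) (h1 : e ≠ 1) :
    ∃ n ∈ normalizer ((S : Subgroup G) : Set G), n * e * n⁻¹ ≠ e := by
  haveI : Fact (Nat.Prime 2) := ⟨Nat.prime_two⟩
  by_contra hc
  push Not at hc
  have he2 := orderOf_of_mem_omegaZ he h1
  have hiso : Cfsg.IsIsolatedInvolution e := ⟨he2, fun g hg => by
    have hP : IsPGroup 2 (closure ({e, g * e * g⁻¹} : Set G)) := by
      obtain ⟨j, -, hj⟩ := (Nat.dvd_prime_pow Nat.prime_two).mp (show orderOf (e * (g * e * g⁻¹)) ∣ 2 ^ 1 by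
        refine orderOf_dvd_of_pow_eq_one ?_
        rw [pow_one, hg.mul_pow, pow_two, pow_two, he.2.1, conj_mul, he.2.1, mul_one, mul_inv_cancel,
          one_mul])
      exact isPGroup_two_closure_pair he2 ((orderOf_conj_eq g e).trans he2) (k := j) hj
    have hSC : (S : Subgroup G) ≤ centralizer ({e} : Set G) := fun s hs =>
      mem_centralizer_singleton_iff.2 (he.2.2 s hs).eq
    obtain ⟨R, hRC, hPR⟩ := CentralSylow.exists_sylow_le_of hSC hP ((closure_le _).2
      (Set.insert_subset (mem_centralizer_singleton_iff.2 rfl)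
        (Set.singleton_subset_iff.2 (mem_centralizer_singleton_iff.2 hg.symm.eq))))
    obtain ⟨k, hk, hkR⟩ := CentralSylow.exists_smul_eq_in hRC hSC
    have hmem : (k * g) * e * (k * g)⁻¹ ∈ S := by
      rw [← hkR]
      have := CentralSylow.conj_mem_smul (g := k) (hPR (subset_closure (Set.mem_insert_of_mem _ rfl)))
      show k * g * e * (k * g)⁻¹ ∈ ((k • R : Sylow 2 G) : Subgroup G)
      rwa [show k * g * e * (k * g)⁻¹ = k * (g * e * g⁻¹) * k⁻¹ by group]
    obtain ⟨-, n, hn, hne⟩ := hR.exists_normalizer he h1 hmem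
    rw [hc n hn] at hne
    have hk' : Commute k e := mem_centralizer_singleton_iff.1 hk
    calc g * e * g⁻¹ = k⁻¹ * (k * g * e * (k * g)⁻¹) * k := by group
      _ = k⁻¹ * e * k := by rw [← hne]
      _ = e := by rw [hk'.inv_left.eq, inv_mul_cancel_right]⟩
  refine hG ⟨⟨fun a b => ?_⟩⟩
  have hz : e ∈ Subgroup.center G := mem_center_iff.2 fun g => by
    have := zstar G e hiso g
    rw [oddCore_eq_bot he2, mem_bot, mul_inv_eq_one, mul_inv_eq_iff_eq_mul] at this
    exact this
  have htop : Subgroup.center G = ⊤ :=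
    (Subgroup.Normal.eq_bot_or_eq_top (inferInstance : (Subgroup.center G).Normal)).resolve_left
      fun h => h1 (by rwa [h, mem_bot] at hz)
  exact (mem_center_iff.1 (htop ▸ mem_top b) a)

end CfsgLib.SylInter
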