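import Cfsg.Agent.Lib.SylInter.Card
import Cfsg.Agent.Lib.StrongCrit.SecOdd
import Cfsg.Agent.Lib.BenderQ.Classify
import Cfsg.Agent.Lib.BenderQ.Bender
import Cfsg.Agent.Lib.BenderQ.RankOne

/-!
The members generate a group of Bender type on the Sylow 2-subgroups of the centraliser, in which
exactly three involutions fix a point.
-/

set_option autoImplicit false
set_option linter.style.haveILetI false
set_option linter.unusedSectionVars false

namespace CfsgLib.SylInter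

open Subgroup MulAction CfsgLib.Involutions CfsgLib.StrongCrit

universe u

variable {G : Type u} [Group G] [Finite G] {S : Sylow 2 G} {z : G}

/-- The group generated by the members. -/
abbrev Lbar (S : Sylow 2 G) (z : G) : Subgroup (Cbar z) := closure (memb S z)

theorem lbar_faithful (g : Lbar S z) (hg : ∀ T : Sylow 2 (Cz z), g • T = T) : g = 1 :=
  Subtype.ext (cbar_faithful g.1 hg)

namespace Data

variable (h : Data S z)
include h

theorem omegaBar_le_lbar : omegaBar S z ≤ Lbar S z := fun x hx => by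
  rcases eq_or_ne x 1 with rfl | h1
  · exact one_mem _
  · exact subset_closure (h.omegaBar_mem_memb hx h1)

theorem conj_lbar (g : Cbar z) {x : Cbar z} (hx : x ∈ Lbar S z) : g * x * g⁻¹ ∈ Lbar S z := by
  induction hx using closure_induction with
  | mem y hy => exact subset_closure (h.memb_conj g hy)
  | one => rw [mul_one, mul_inv_cancel]; exact one_mem _
  | mul p q _ _ hp hq =>
    rw [show g * (p * q) * g⁻¹ = (g * p * g⁻¹) * (g * q * g⁻¹) by group]
    exact mul_mem hp hq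
  | inv p _ hp =>
    rw [show g * p⁻¹ * g⁻¹ = (g * p * g⁻¹)⁻¹ by group]
    exact inv_mem hp

theorem oneFix (main : CriterionMain.{u}) : BenderTrans.OneFix (Lbar S z) (Sylow 2 (Cz z)) := by
  haveI : Fact (Nat.Prime 2) := ⟨Nat.prime_two⟩
  have hset := h.setting
  refine ⟨fun T U => ?_, hset.nontriv, ?_, fun t ht => ?_, fun t ht T U hT hU => ?_⟩
  · rcases eq_or_ne T U with rfl | hne
    · exact ⟨1, one_smul _ _⟩
    obtain ⟨s, hs⟩ := hset.exists_memAt T
    obtain ⟨t, ht⟩ := hset.exists_memAt U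
    obtain ⟨g, hg, -, hgT⟩ := hset.exists_conj_of_ne hs ht hne
    refine ⟨⟨g, closure_mono ?_ hg⟩, hgT⟩
    rintro x (rfl | rfl)
    · exact hs.1
    · exact ht.1
  · obtain ⟨s, hs⟩ := hset.exists_memAt h.pt
    exact ⟨⟨s, subset_closure hs.1⟩, by rw [Subgroup.orderOf_mk]; exact h.memb_orderOf hs.1⟩
  · have hodd : ¬ 2 ∣ Nat.card (Sylow 2 (Cz z)) := not_dvd_card_sylow 2 (Cz z)
    have hP : IsPGroup 2 (zpowers t) :=
      IsPGroup.of_card (n := 1) (by rw [Nat.card_zpowers, ht, pow_one])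
    obtain ⟨T, hT⟩ := hP.nonempty_fixed_point_of_prime_not_dvd_card (Sylow 2 (Cz z)) hodd
    exact ⟨T, hT ⟨t, mem_zpowers t⟩⟩
  · by_contra hne
    exact hset.notMem_closure_of_bad main cbar_faithful (w := (t : Cbar z))
      ⟨by rw [Subgroup.orderOf_coe]; exact ht, T, U, hne, hT, hU⟩ t.2

/-- There are two distinct non-trivial elements of the image of `omegaZ S`, with their product. -/
theorem exists_three : ∃ s t : Cbar z, s ∈ omegaBar S z ∧ t ∈ omegaBar S z ∧ s ≠ 1 ∧ t ≠ 1 ∧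
    s ≠ t ∧ Commute s t ∧ ∀ x ∈ omegaBar S z, x = 1 ∨ x = s ∨ x = t ∨ x = s * t := by
  obtain ⟨a, ha, ha1, haz, -⟩ := h.exists_avoid 1
  obtain ⟨b, hb, hb1, hbz, hba, hbza⟩ := h.exists_avoid a
  set a₀ : Cz z := ⟨a, h.omegaZ_le_cz ha⟩
  set b₀ : Cz z := ⟨b, h.omegaZ_le_cz hb⟩
  have hne : proj z a₀ ≠ proj z b₀ := fun e =>
    (h.eq_or_of_proj_eq (e := a₀) (e' := b₀) ha hb e).elim hba hbza
  refine ⟨proj z a₀, proj z b₀, h.mem_omegaBar.2 ⟨a₀, ha, rfl⟩, h.mem_omegaBar.2 ⟨b₀, hb, rfl⟩,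
    h.proj_ne_one (e := a₀) ha ha1 haz, h.proj_ne_one (e := b₀) hb hb1 hbz, hne,
    (show Commute a₀ b₀ from Subtype.ext (commute_of_mem_omegaZ ha hb).eq).map (proj z),
    fun x hx => ?_⟩
  classical
  by_contra hcon
  push Not at hcon
  obtain ⟨h1, h2, h3, h4⟩ := hcon
  have hab : proj z a₀ * proj z b₀ ∈ omegaBar S z :=
    mul_mem (h.mem_omegaBar.2 ⟨a₀, ha, rfl⟩) (h.mem_omegaBar.2 ⟨b₀, hb, rfl⟩)
  letI : Fintype (omegaBar S z) := Fintype.ofFinite _
  let V : Finset (omegaBar S z) := {1, ⟨_, h.mem_omegaBar.2 ⟨a₀, ha, rfl⟩⟩,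
    ⟨_, h.mem_omegaBar.2 ⟨b₀, hb, rfl⟩⟩, ⟨_, hab⟩, ⟨x, hx⟩}
  have n1 : proj z a₀ * proj z b₀ ≠ 1 := fun e => hne (by
    rw [mul_eq_one_iff_eq_inv, ← map_inv,
      show b₀⁻¹ = b₀ from Subtype.ext (inv_eq_of_mul_eq_one_right hb.2.1)] at e
    exact e)
  have hV : V.card = 5 := by
    have p1 := h.proj_ne_one (e := a₀) ha ha1 haz
    have p2 := h.proj_ne_one (e := b₀) hb hb1 hbz
    simp [V, Subtype.ext_iff, p1.symm, p2.symm, n1.symm, hne, h1.symm, h2.symm, h3.symm, h4.symm,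
      p1, p2]
  have := V.card_le_univ
  rw [hV, ← Nat.card_eq_fintype_card, h.card_omegaBar] at this
  omega

theorem hasFour : BenderTrans.HasFour (Lbar S z) := by
  obtain ⟨s, t, hs, ht, hs1, ht1, hne, hc, -⟩ := h.exists_three
  refine ⟨⟨s, h.omegaBar_le_lbar hs⟩, ⟨t, h.omegaBar_le_lbar ht⟩, ?_, ?_,
    fun e => hne (congrArg Subtype.val e), Subtype.ext hc.eq⟩ <;> rw [Subgroup.orderOf_mk]
  · exact h.memb_orderOf (h.omegaBar_mem_memb hs hs1)
  · exact h.memb_orderOf (h.omegaBar_mem_memb ht ht1)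

theorem lbar_isBenderType (main : CriterionMain.{u}) : BenderQ.IsBenderType (Lbar S z) := by
  obtain ⟨N, hN, hNodd, hNt⟩ := BenderQ.exists_normal_benderType BenderQ.benderKernel
    BenderQ.rankOneClass (h.oneFix main) lbar_faithful h.hasFour
  have hle : Lbar S z ≤ N.map (Lbar S z).subtype := by
    refine (closure_le _).2 fun x hx => ⟨⟨x, subset_closure hx⟩, ?_, rfl⟩
    have h2 : orderOf (⟨x, subset_closure hx⟩ : Lbar S z) = 2 := by
      rw [Subgroup.orderOf_mk]; exact h.memb_orderOf hx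
    have h3 : orderOf (QuotientGroup.mk' N (⟨x, subset_closure hx⟩ : Lbar S z)) ∣ 2 :=
      (orderOf_map_dvd (QuotientGroup.mk' N) _).trans h2.dvd
    have h4 : Odd (orderOf (QuotientGroup.mk' N (⟨x, subset_closure hx⟩ : Lbar S z))) :=
      hNodd.of_dvd_nat (by rw [Subgroup.index_eq_card]; exact orderOf_dvd_natCard _)
    rcases (Nat.dvd_prime Nat.prime_two).1 h3 with h5 | h5
    · exact (QuotientGroup.eq_one_iff (N := N) _).1 (orderOf_eq_one_iff.1 h5)
    · rw [h5] at h4; exact absurd h4 (by decide)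
  have hNtop : N = ⊤ := eq_top_iff.2 fun g _ => by
    obtain ⟨y, hy, hyg⟩ := hle g.2
    rwa [show g = y from Subtype.ext hyg.symm]
  subst hNtop
  exact hNt.of_equiv Subgroup.topEquiv.symm

/-- The involutions of the group fixing `S` are the non-trivial elements of the image. -/
theorem invAt_iff (main : CriterionMain.{u}) (w : Lbar S z) :
    w ∈ BenderTrans.invAt (Lbar S z) h.pt ↔ (w : Cbar z) ∈ omegaBar S z ∧ (w : Cbar z) ≠ 1 := by
  constructor
  · rintro ⟨hw2, hwp⟩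
    obtain ⟨s, hs⟩ := h.setting.exists_memAt h.pt
    obtain ⟨c, hc⟩ := isConj_iff.1 ((h.oneFix main).isConj_involutions
      (s := ⟨s, subset_closure hs.1⟩) (t := w)
      (by rw [Subgroup.orderOf_mk]; exact h.memb_orderOf hs.1) hw2)
    refine h.memb_pt_iff.1 ⟨?_, hwp⟩
    rw [← hc]
    exact h.memb_conj (c : Cbar z) hs.1
  · rintro ⟨hw, hw1⟩
    obtain ⟨hm, hp⟩ := h.memb_pt_iff.2 ⟨hw, hw1⟩
    exact ⟨by rw [← Subgroup.orderOf_coe]; exact h.memb_orderOf hm, hp⟩

/-- No element fixing `S` interchanges two of the three involutions there. -/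
theorem not_swap {g s t : Cbar z} (hg : g • h.pt = h.pt) (hs : s ∈ omegaBar S z)
    (hst : g * s * g⁻¹ = t) (hts : g * t * g⁻¹ = s) : s = t := by
  obtain ⟨c, rfl⟩ := proj_surjective g
  obtain ⟨e, he, rfl⟩ := h.mem_omegaBar.1 hs
  have hc : (c : G) ∈ normalizer ((S : Subgroup G) : Set G) :=
    h.smul_pt_iff.1 (by rwa [proj_smul] at hg)
  have h2 : proj z e = proj z (c ^ 2 * e * (c ^ 2)⁻¹) := by
    conv_lhs => rw [← hts, ← hst]
    simp only [map_mul, map_inv, pow_two]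
    group
  have hc2 : ((c ^ 2 : Cz z) : G) ∈ normalizer ((S : Subgroup G) : Set G) := by
    simpa using pow_mem hc 2
  have h3 : (c : G) ^ 2 * e * ((c : G) ^ 2)⁻¹ = e := by
    rcases h.eq_or_of_proj_eq (e := e) he (e' := c ^ 2 * e * (c ^ 2)⁻¹)
        (conj_mem_omegaZ hc2 he) h2 with e1 | e1
    · simpa using e1
    · exact absurd (by simpa using e1) (h.conj_ne_mul (pow_mem hc 2) ((commute_cz c).pow_left 2) he)
  have h4 := commute_of_sq hc he (mul_inv_eq_iff_eq_mul.1 h3)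
  rw [← hst, ← map_inv, ← map_mul, ← map_mul]
  congr 1
  refine Subtype.ext ?_
  show (e : G) = (c : G) * e * (c : G)⁻¹
  rw [h4.eq, mul_inv_cancel_right]

/-- An element fixing `S` permutes the three involutions there. -/
theorem conj_omegaBar {g x : Cbar z} (hg : g • h.pt = h.pt) (hx : x ∈ omegaBar S z) :
    g * x * g⁻¹ ∈ omegaBar S z := by
  obtain ⟨c, rfl⟩ := proj_surjective g
  obtain ⟨e, he, rfl⟩ := h.mem_omegaBar.1 hx
  refine h.mem_omegaBar.2 ⟨c * e * c⁻¹, conj_mem_omegaZ (h.smul_pt_iff.1 (by rwa [proj_smul] at hg)) he, ?_⟩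
  simp [map_mul]

end Data

end CfsgLib.SylInter
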