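import Mathlib

/-!
A group of odd order acting on an elementary abelian 2-group `E`, moving `z` and transitive on the
elements outside `⟨z⟩` modulo `z`: the group is transitive on the non-trivial elements, and the
resulting tournament forces `E` to have order eight.
-/

set_option autoImplicit false
set_option linter.style.haveILetI false

namespace CfsgLib.SylInter

open Subgroup

universe u

variable {G : Type u} [Group G]

/-- In a group of exponent two inside `E`, everything commutes. -/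
theorem commute_of_sq_eq_one {E : Subgroup G} (hE : ∀ e ∈ E, e * e = 1) {a b : G} (ha : a ∈ E)
    (hb : b ∈ E) : a * b = b * a := by
  have h1 := hE _ (mul_mem ha hb)
  calc a * b = a * (a * b * (a * b)) * b := by rw [h1, mul_one]
    _ = a * a * (b * a) * (b * b) := by group
    _ = b * a := by rw [hE a ha, hE b hb, one_mul, mul_one]

/-- An element of odd order whose square fixes `e` fixes `e`. -/
theorem fix_of_sq [Finite G] {A : Subgroup G} (hA : Odd (Nat.card A)) {a e : G} (ha : a ∈ A)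
    (h2 : a * (a * e * a⁻¹) * a⁻¹ = e) : a * e * a⁻¹ = e := by
  obtain ⟨m, hm⟩ := hA.of_dvd_nat (Subgroup.orderOf_dvd_natCard A ha)
  have hc : Commute (a ^ 2) e := by
    have : a ^ 2 * e * (a ^ 2)⁻¹ = e := by
      calc a ^ 2 * e * (a ^ 2)⁻¹ = a * (a * e * a⁻¹) * a⁻¹ := by rw [pow_two]; group
        _ = e := h2
    exact mul_inv_eq_iff_eq_mul.1 this
  have hc' : Commute a e := by
    have h1 := hc.pow_left (m + 1)
    rwa [← pow_mul, show 2 * (m + 1) = orderOf a + 1 by omega, pow_succ, pow_orderOf_eq_one,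
      one_mul] at h1
  rw [hc'.eq, mul_inv_cancel_right]

variable [Finite G] {E A : Subgroup G} {z : G}

section

variable (hA : Odd (Nat.card A)) (hE : ∀ e ∈ E, e * e = 1)
  (hAE : ∀ a ∈ A, ∀ e ∈ E, a * e * a⁻¹ ∈ E) (hz : z ∈ E) (hz1 : z ≠ 1)
  (hmove : ∃ a ∈ A, a * z * a⁻¹ ≠ z)
  (h8 : ∀ y : G, ∃ e ∈ E, e ≠ 1 ∧ e ≠ z ∧ e ≠ y ∧ e ≠ z * y)
  (htrans : ∀ e f : G, e ∈ E → e ≠ 1 → e ≠ z → f ∈ E → f ≠ 1 → f ≠ z →
    ∃ a ∈ A, a * z * a⁻¹ = z ∧ (a * e * a⁻¹ = f ∨ a * e * a⁻¹ = z * f))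

include hA hE hAE hz hz1 hmove htrans in
/-- Every non-trivial element is a conjugate of `z`. -/
theorem exists_conj_eq : ∀ u ∈ E, u ≠ 1 → ∃ a ∈ A, a * z * a⁻¹ = u := by
  have hzz : ∀ f : G, z * (z * f) = f := fun f => by rw [← mul_assoc, hE z hz, one_mul]
  -- one pair `w`, `z * w` of conjugates suffices
  suffices h : ∃ w ∈ E, w ≠ 1 ∧ w ≠ z ∧ (∃ a ∈ A, a * z * a⁻¹ = w) ∧ ∃ a ∈ A, a * z * a⁻¹ = z * w by
    obtain ⟨w, hw, hw1, hwz, ⟨a, ha, haw⟩, b, hb, hbw⟩ := h
    intro u hu hu1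
    rcases eq_or_ne u z with rfl | huz
    · exact ⟨1, one_mem A, by group⟩
    obtain ⟨d, hd, hdz, hdw | hdw⟩ := htrans w u hw hw1 hwz hu hu1 huz
    · exact ⟨d * a, mul_mem hd ha, by rw [← hdw, ← haw]; group⟩
    · refine ⟨d * b, mul_mem hd hb, ?_⟩
      calc d * b * z * (d * b)⁻¹ = d * (b * z * b⁻¹) * d⁻¹ := by group
        _ = (d * z * d⁻¹) * (d * w * d⁻¹) := by rw [hbw]; group
        _ = u := by rw [hdz, hdw, hzz]
  obtain ⟨a, ha, hay⟩ := hmove
  set y := a * z * a⁻¹ with hy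
  have hyE : y ∈ E := hAE a ha z hz
  have hy1 : y ≠ 1 := by simpa [hy] using hz1
  set x := a⁻¹ * z * a with hx
  have hxE : x ∈ E := by
    have := hAE a⁻¹ (inv_mem ha) z hz
    rwa [inv_inv] at this
  have hx1 : x ≠ 1 := by
    intro e
    exact hz1 (by rw [show z = a * x * a⁻¹ by rw [hx]; group, e]; group)
  have hxz : x ≠ z := by
    intro e
    exact hay (calc y = a * x * a⁻¹ := by rw [hy, e]
      _ = z := by rw [hx]; group)
  obtain ⟨b, hb, hbz, hby | hby⟩ := htrans y x hyE hy1 hay hxE hx1 hxz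
  · exfalso
    have hg : a * b * a⁻¹ * a ∈ A := mul_mem (mul_mem (mul_mem ha hb) (inv_mem ha)) ha
    have h1 : a * b * z * (a * b)⁻¹ = y := by
      calc a * b * z * (a * b)⁻¹ = a * (b * z * b⁻¹) * a⁻¹ := by group
        _ = y := by rw [hbz]
    have h2 : a * b * y * (a * b)⁻¹ = z := by
      calc a * b * y * (a * b)⁻¹ = a * (b * y * b⁻¹) * a⁻¹ := by group
        _ = z := by rw [hby, hx]; group
    have h3 := fix_of_sq hA (mul_mem ha hb) (e := z) (by rw [h1, h2])
    exact hay (h1.symm.trans h3)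
  · refine ⟨x, hxE, hx1, hxz, ⟨a⁻¹, inv_mem ha, by rw [inv_inv]⟩, b * a, mul_mem hb ha, ?_⟩
    calc b * a * z * (b * a)⁻¹ = b * y * b⁻¹ := by rw [hy]; group
      _ = z * x := hby

include hA hE hAE hz hz1 hmove h8 htrans in
/-- `E` has order eight. -/
theorem card_eq_eight : Nat.card E = 8 := by
  classical
  have hconj := exists_conj_eq hA hE hAE hz hz1 hmove htrans
  have hzz : ∀ f : G, z * (z * f) = f := fun f => by rw [← mul_assoc, hE z hz, one_mul]
  -- a hyperplane of `E` avoiding `z`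
  obtain ⟨M, ⟨hME, hzM⟩, hmax⟩ := Set.Finite.exists_maximalFor id
    {M : Subgroup G | M ≤ E ∧ z ∉ M} (Set.toFinite _) ⟨⊥, bot_le, fun h => hz1 (mem_bot.1 h)⟩
  have hout : ∀ e ∈ E, e ∉ M → z * e ∈ M := by
    intro e he heM
    by_contra hze
    let M' : Subgroup G :=
      { carrier := {x | x ∈ E ∧ (x ∈ M ∨ x * e ∈ M)}
        one_mem' := ⟨one_mem E, Or.inl (one_mem M)⟩
        mul_mem' := by
          rintro p q ⟨hp, hp'⟩ ⟨hq, hq'⟩
          refine ⟨mul_mem hp hq, ?_⟩
          rcases hp' with hp' | hp' <;> rcases hq' with hq' | hq'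
          · exact Or.inl (mul_mem hp' hq')
          · exact Or.inr (by rw [mul_assoc]; exact mul_mem hp' hq')
          · refine Or.inr ?_
            rw [mul_assoc, commute_of_sq_eq_one hE hq he, ← mul_assoc]
            exact mul_mem hp' hq'
          · refine Or.inl ?_
            have := mul_mem hp' hq'
            rwa [show p * e * (q * e) = p * (e * q) * e by group, commute_of_sq_eq_one hE he hq,
              show p * (q * e) * e = p * q * (e * e) by group, hE e he, mul_one] at this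
        inv_mem' := by
          rintro p ⟨hp, hp'⟩
          rw [show p⁻¹ = p from inv_eq_of_mul_eq_one_right (hE p hp)]
          exact ⟨hp, hp'⟩ }
    have hle : M ≤ M' := fun x hx => ⟨hME hx, Or.inl hx⟩
    have hM'z : z ∉ M' := fun h => h.2.elim hzM hze
    have := hmax (j := M') ⟨fun x hx => hx.1, hM'z⟩ hle
    exact heM (this ⟨he, Or.inr (by rw [hE e he]; exact one_mem M)⟩)
  let ψ : G → ZMod 2 := fun e => if e ∈ M then 0 else 1
  have hψ : ∀ p q : G, p ∈ E → q ∈ E → ψ (p * q) = ψ p + ψ q := by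
    intro p q hp hq
    simp only [ψ]
    by_cases h1 : p ∈ M <;> by_cases h2 : q ∈ M
    · rw [if_pos h1, if_pos h2, if_pos (mul_mem h1 h2), add_zero]
    · rw [if_pos h1, if_neg h2, if_neg (fun h => h2 ((M.mul_mem_cancel_left h1).1 h)), zero_add]
    · rw [if_neg h1, if_pos h2, if_neg (fun h => h1 ((M.mul_mem_cancel_right h2).1 h)), add_zero]
    · rw [if_neg h1, if_neg h2, if_pos]
      · decide
      · have := mul_mem (hout p hp h1) (hout q hq h2)
        rwa [show z * p * (z * q) = z * (p * z) * q by group, commute_of_sq_eq_one hE hp hz,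
          hzz] at this
  let Az := A ⊓ centralizer ({z} : Set G)
  letI : Fintype Az := Fintype.ofFinite _
  let Ψ : G → ZMod 2 := fun e => ∑ c : Az, ψ ((c : G) * e * (c : G)⁻¹)
  have hΨ : ∀ p q : G, p ∈ E → q ∈ E → Ψ (p * q) = Ψ p + Ψ q := by
    intro p q hp hq
    simp only [Ψ, ← Finset.sum_add_distrib]
    refine Finset.sum_congr rfl fun c _ => ?_
    rw [← hψ _ _ (hAE _ c.2.1 p hp) (hAE _ c.2.1 q hq)]
    congr 1
    group
  have hΨz : Ψ z = 1 := by
    have hAz : ∀ c : Az, ψ ((c : G) * z * (c : G)⁻¹) = 1 := fun c => by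
      rw [mem_centralizer_singleton_iff.1 c.2.2, mul_inv_cancel_right]
      exact if_neg hzM
    simp only [Ψ, Finset.sum_congr rfl (fun c _ => hAz c), Finset.sum_const, Finset.card_univ,
      nsmul_eq_mul, mul_one]
    rw [← Nat.card_eq_fintype_card, ← ZMod.natCast_mod,
      Nat.odd_iff.1 (hA.of_dvd_nat (card_dvd_of_le inf_le_left)), Nat.cast_one]
  have hinv : ∀ d ∈ Az, ∀ e : G, Ψ (d * e * d⁻¹) = Ψ e := by
    intro d hd e
    refine Fintype.sum_equiv (Equiv.mulRight ⟨d, hd⟩) _ _ fun c => ?_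
    simp only [Equiv.coe_mulRight, Subgroup.coe_mul]
    congr 1
    group
  -- the tournament
  have hone : ∀ c ∈ A, c * z * c⁻¹ ≠ z → Ψ (c * z * c⁻¹) + Ψ (c⁻¹ * z * c) = 1 := by
    intro c hc hne
    set x := c * z * c⁻¹ with hx
    set x' := c⁻¹ * z * c with hx'
    have hxE : x ∈ E := hAE c hc z hz
    have hx'E : x' ∈ E := by
      have := hAE c⁻¹ (inv_mem hc) z hz
      rwa [inv_inv] at this
    have hx'1 : x' ≠ 1 := fun e => hz1 (by
      rw [show z = c * x' * c⁻¹ by rw [hx']; group, e]; group)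
    have hx'z : x' ≠ z := fun e => hne (calc x = c * x' * c⁻¹ := by rw [hx, e]
      _ = z := by rw [hx']; group)
    obtain ⟨d, hd, hdz, hdx | hdx⟩ := htrans x x' hxE (by simpa [hx] using hz1) hne hx'E hx'1 hx'z
    · exfalso
      have h1 : c * d * z * (c * d)⁻¹ = x := by
        calc c * d * z * (c * d)⁻¹ = c * (d * z * d⁻¹) * c⁻¹ := by group
          _ = x := by rw [hdz]
      have h2 : c * d * x * (c * d)⁻¹ = z := by
        calc c * d * x * (c * d)⁻¹ = c * (d * x * d⁻¹) * c⁻¹ := by group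
          _ = z := by rw [hdx, hx']; group
      exact hne (h1.symm.trans (fix_of_sq hA (mul_mem hc hd) (by rw [h1, h2])))
    · have h1 := hinv d ⟨hd, mem_centralizer_singleton_iff.2 (mul_inv_eq_iff_eq_mul.1 hdz)⟩ x
      rw [hdx, hΨ z x' hz hx'E, hΨz] at h1
      rw [← h1, add_assoc, CharTwo.add_self_eq_zero, add_zero]
  choose a haA haz using fun (u : G) (hu : u ∈ E ∧ u ≠ 1) => hconj u hu.1 hu.2
  let P : ∀ u : G, u ∈ E ∧ u ≠ 1 → G → ZMod 2 := fun u hu v => Ψ ((a u hu)⁻¹ * v * a u hu)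
  have hanti : ∀ u hu v hv, u ≠ v → P u hu v + P v hv u = 1 := by
    intro u hu v hv huv
    have hc : (a u hu)⁻¹ * a v hv ∈ A := mul_mem (inv_mem (haA u hu)) (haA v hv)
    have h1 : (a u hu)⁻¹ * a v hv * z * ((a u hu)⁻¹ * a v hv)⁻¹ = (a u hu)⁻¹ * v * a u hu := by
      conv_rhs => rw [← haz v hv]
      group
    have h2 : ((a u hu)⁻¹ * a v hv)⁻¹ * z * ((a u hu)⁻¹ * a v hv) = (a v hv)⁻¹ * u * a v hv := by
      conv_rhs => rw [← haz u hu]
      group
    have h3 := hone _ hc (fun e => huv (by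
      rw [← haz u hu, show v = a u hu * ((a u hu)⁻¹ * v * a u hu) * (a u hu)⁻¹ by group, ← h1, e]))
    rwa [h1, h2] at h3
  have hP : ∀ u hu p q, p ∈ E → q ∈ E → P u hu (p * q) = P u hu p + P u hu q := by
    intro u hu p q hp hq
    simp only [P]
    rw [← hΨ _ _ (by simpa using hAE _ (inv_mem (haA u hu)) p hp)
      (by simpa using hAE _ (inv_mem (haA u hu)) q hq)]
    congr 1
    group
  obtain ⟨y, hy, hy1, hyz, -⟩ := h8 1
  have hzy : z * y ∈ E := mul_mem hz hy
  have hzy1 : z * y ≠ 1 := fun e => hyz (by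
    rw [← hzz y, e, mul_one])
  set W : Finset G := {1, z, y, z * y} with hW
  have hsum : ∀ v ∈ E, v ∉ W →
      P z ⟨hz, hz1⟩ v + P y ⟨hy, hy1⟩ v + P (z * y) ⟨hzy, hzy1⟩ v = 1 := by
    intro v hv hvW
    simp only [hW, Finset.mem_insert, Finset.mem_singleton, not_or] at hvW
    have e1 := hanti z ⟨hz, hz1⟩ v ⟨hv, hvW.1⟩ (Ne.symm hvW.2.1)
    have e2 := hanti y ⟨hy, hy1⟩ v ⟨hv, hvW.1⟩ (Ne.symm hvW.2.2.1)
    have e3 := hanti (z * y) ⟨hzy, hzy1⟩ v ⟨hv, hvW.1⟩ (Ne.symm hvW.2.2.2)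
    rw [hP v ⟨hv, hvW.1⟩ z y hz hy] at e3
    generalize P z ⟨hz, hz1⟩ v = p₁ at *
    generalize P y ⟨hy, hy1⟩ v = p₂ at *
    generalize P (z * y) ⟨hzy, hzy1⟩ v = p₃ at *
    generalize P v ⟨hv, hvW.1⟩ z = q₁ at *
    generalize P v ⟨hv, hvW.1⟩ y = q₂ at *
    clear hvW
    revert p₁ p₂ p₃ q₁ q₂
    decide
  -- no two elements outside `W` have their product outside `W`
  obtain ⟨v, hv, hv1, hvz, hvy, hvzy⟩ := h8 y
  have hvW : v ∉ W := by simp [hW, hv1, hvz, hvy, hvzy]
  set W' : Finset G := W ∪ W.image (v * ·) with hW'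
  have hsub : ∀ w ∈ E, w ∈ W' := by
    intro w hw
    by_contra hwW
    simp only [hW', Finset.mem_union, Finset.mem_image, not_or, not_exists, not_and] at hwW
    have hvw : v * w ∉ W := fun h => hwW.2 (v * w) h (by rw [← mul_assoc, hE v hv, one_mul])
    have h3 := hsum _ (mul_mem hv hw) hvw
    rw [hP z _ v w hv hw, hP y _ v w hv hw, hP (z * y) _ v w hv hw] at h3
    have h1 := hsum v hv hvW
    have h2 := hsum w hw hwW.1
    generalize P z ⟨hz, hz1⟩ v = p₁ at *
    generalize P y ⟨hy, hy1⟩ v = p₂ at *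
    generalize P (z * y) ⟨hzy, hzy1⟩ v = p₃ at *
    generalize P z ⟨hz, hz1⟩ w = q₁ at *
    generalize P y ⟨hy, hy1⟩ w = q₂ at *
    generalize P (z * y) ⟨hzy, hzy1⟩ w = q₃ at *
    clear hwW hvw
    revert p₁ p₂ p₃ q₁ q₂ q₃
    decide
  have hle : Nat.card E ≤ 8 := by
    calc Nat.card E ≤ Nat.card W' :=
          Nat.card_le_card_of_injective (fun e : E => (⟨(e : G), hsub _ e.2⟩ : W'))
            fun p q hpq => Subtype.ext (congrArg (fun t : W' => (t : G)) hpq)
      _ = W'.card := Nat.card_eq_finsetCard W'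
      _ ≤ W.card + (W.image (v * ·)).card := Finset.card_union_le _ _
      _ ≤ 4 + 4 := Nat.add_le_add Finset.card_le_four (Finset.card_image_le.trans Finset.card_le_four)
      _ = 8 := rfl
  have hge : 5 ≤ Nat.card E := by
    let V : Finset E := {1, ⟨z, hz⟩, ⟨y, hy⟩, ⟨z * y, hzy⟩, ⟨v, hv⟩}
    have hV : V.card = 5 := by
      have hzy' : z * y ≠ z := fun e => hy1 (mul_eq_left.1 e)
      have hzy'' : z * y ≠ y := fun e => hz1 (mul_eq_right.1 e)
      have hzy0 : y ≠ z := hyz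
      simp [V, Subtype.ext_iff, hz1.symm, hy1.symm, hzy1.symm, hv1.symm, hzy0.symm, hzy'.symm,
        hzy''.symm, hvz.symm, hvy.symm, hvzy.symm]
    letI : Fintype E := Fintype.ofFinite _
    rw [Nat.card_eq_fintype_card, ← hV]
    exact V.card_le_univ
  haveI : Fact (Nat.Prime 2) := ⟨Nat.prime_two⟩
  obtain ⟨k, hk⟩ := IsPGroup.iff_card.1 (show IsPGroup 2 E from fun e =>
    ⟨1, Subtype.ext (by simpa [pow_two] using hE _ e.2)⟩)
  have hk3 : k = 3 := by
    rcases lt_trichotomy k 3 with h | h | h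
    · have := Nat.pow_le_pow_right two_pos (show k ≤ 2 by omega)
      omega
    · exact h
    · have := Nat.pow_le_pow_right two_pos (show 4 ≤ k by omega)
      omega
  rw [hk, hk3]
  norm_num

end

end CfsgLib.SylInter
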