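import Cfsg.Agent.Lib.SylInter.Local
import Cfsg.Agent.Lib.SylInter.Orbit

/-!
`Ω₁(Z(S))` has order eight and `N(S)` is transitive on its involutions; its image in the permutation
group of the centraliser of `z` is a four group.
-/

set_option autoImplicit false
set_option linter.style.haveILetI false
set_option linter.unusedSectionVars false

namespace CfsgLib.SylInter

open Subgroup MulAction

universe u

variable {G : Type u} [Group G] [Finite G] {S : Sylow 2 G} {z : G}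

/-- An odd complement of `S` in its normaliser. -/
theorem exists_complement (S : Sylow 2 G) :
    ∃ A : Subgroup G, A ≤ normalizer ((S : Subgroup G) : Set G) ∧ Odd (Nat.card A) ∧
      ∀ n ∈ normalizer ((S : Subgroup G) : Set G), ∃ a ∈ A, ∃ s ∈ (S : Subgroup G), n = a * s := by
  haveI : Fact (Nat.Prime 2) := ⟨Nat.prime_two⟩
  set N := normalizer ((S : Subgroup G) : Set G) with hN
  set S' : Sylow 2 N := S.subtype Subgroup.le_normalizer with hS'
  haveI : (S' : Subgroup N).Normal := by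
    rw [hS', Sylow.coe_subtype]
    exact normal_subgroupOf_of_le_normalizer le_rfl
  have hidx : ¬ 2 ∣ (S' : Subgroup N).index := S'.not_dvd_index
  obtain ⟨K, hK⟩ := Subgroup.exists_left_complement'_of_coprime (N := (S' : Subgroup N)) (by
    obtain ⟨k, hk⟩ := IsPGroup.iff_card.1 S'.isPGroup'
    rw [hk]
    exact (Nat.prime_two.coprime_iff_not_dvd.2 hidx).pow_left k)
  refine ⟨K.map N.subtype, map_subtype_le _, ?_, fun n hn => ?_⟩
  · rw [card_subtype, ← hK.index_eq_card, ← Nat.not_even_iff_odd, even_iff_two_dvd]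
    exact hidx
  · obtain ⟨⟨⟨k, hk⟩, s, hs⟩, hks⟩ := hK.2 ⟨n, hn⟩
    refine ⟨k, ⟨k, hk, rfl⟩, s, ?_, congrArg Subtype.val hks.symm⟩
    rw [SetLike.mem_coe, hS', Sylow.coe_subtype, mem_subgroupOf] at hs
    exact hs

/-- The image of `omegaZ S` in the permutation group. -/
def omegaBar (S : Sylow 2 G) (z : G) : Subgroup (Cbar z) :=
  ((omegaZ S).subgroupOf (Cz z)).map (proj z)

namespace Data

variable (h : Data S z)
include h

/-- The facts used by the orbit lemma, for a complement of `S`. -/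
theorem complement_spec : ∃ A : Subgroup G, A ≤ normalizer ((S : Subgroup G) : Set G) ∧
    Odd (Nat.card A) ∧ (∃ a ∈ A, a * z * a⁻¹ ≠ z) ∧
    ∀ e f : G, e ∈ omegaZ S → e ≠ 1 → e ≠ z → f ∈ omegaZ S → f ≠ 1 → f ≠ z →
      ∃ a ∈ A, a * z * a⁻¹ = z ∧ (a * e * a⁻¹ = f ∨ a * e * a⁻¹ = z * f) := by
  obtain ⟨A, hAN, hAodd, hAS⟩ := exists_complement S
  have key : ∀ a, ∀ s ∈ (S : Subgroup G), ∀ e ∈ omegaZ S, a * s * e * (a * s)⁻¹ = a * e * a⁻¹ := by
    intro a s hs e he
    calc a * s * e * (a * s)⁻¹ = a * (s * e * s⁻¹) * a⁻¹ := by group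
      _ = a * e * a⁻¹ := by rw [(he.2.2 s hs).eq, mul_inv_cancel_right]
  refine ⟨A, hAN, hAodd, ?_, fun e f he he1 hez hf hf1 hfz => ?_⟩
  · obtain ⟨n, hn, hne⟩ := h.moving z h.mem h.ne
    obtain ⟨a, ha, s, hs, rfl⟩ := hAS n hn
    rw [key a s hs z h.mem] at hne
    exact ⟨a, ha, hne⟩
  · obtain ⟨n, hn, hnz, hne⟩ := h.transitive he he1 hez hf hf1 hfz
    obtain ⟨a, ha, s, hs, rfl⟩ := hAS n hn
    rw [key a s hs e he] at hne
    refine ⟨a, ha, ?_, hne⟩
    rw [← key a s hs z h.mem, hnz.eq, mul_inv_cancel_right]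

theorem h8 : ∀ y : G, ∃ e ∈ omegaZ S, e ≠ 1 ∧ e ≠ z ∧ e ≠ y ∧ e ≠ z * y := h.exists_avoid

theorem card_omegaZ : Nat.card (omegaZ S) = 8 := by
  obtain ⟨A, hAN, hAodd, hmove, htrans⟩ := h.complement_spec
  exact card_eq_eight (E := omegaZ S) hAodd (fun e he => he.2.1) (fun a ha e he => conj_mem_omegaZ (hAN ha) he)
    h.mem h.ne hmove h.exists_avoid htrans

theorem exists_conj_z {u : G} (hu : u ∈ omegaZ S) (hu1 : u ≠ 1) :
    ∃ n ∈ normalizer ((S : Subgroup G) : Set G), n * z * n⁻¹ = u := by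
  obtain ⟨A, hAN, hAodd, hmove, htrans⟩ := h.complement_spec
  obtain ⟨a, ha, hau⟩ := exists_conj_eq (E := omegaZ S) hAodd (fun e he => he.2.1)
    (fun a ha e he => conj_mem_omegaZ (hAN ha) he) h.mem h.ne hmove htrans u hu hu1
  exact ⟨a, hAN ha, hau⟩

theorem mem_omegaBar {x : Cbar z} :
    x ∈ omegaBar S z ↔ ∃ e : Cz z, (e : G) ∈ omegaZ S ∧ proj z e = x := by
  constructor
  · rintro ⟨e, he, rfl⟩
    exact ⟨e, he, rfl⟩
  · rintro ⟨e, he, rfl⟩
    exact ⟨e, he, rfl⟩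

theorem card_omegaBar : Nat.card (omegaBar S z) = 4 := by
  set E' := (omegaZ S).subgroupOf (Cz z) with hE'
  have hker : (proj z).ker ⊓ E' = zpowers (⟨z, h.sylow_le h.mem.1⟩ : Cz z) := by
    refine le_antisymm (fun e he12 => ?_) (zpowers_le.2 ⟨?_, h.mem⟩)
    · obtain ⟨he1, he2⟩ := he12
      rcases h.eq_or_of_proj_eq (e := 1) (e' := e) (one_mem _) he2 (by rw [map_one]; exact he1.symm)
        with e1 | e1
      · rw [show e = 1 from Subtype.ext e1]
        exact one_mem _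
      · rw [show e = ⟨z, h.sylow_le h.mem.1⟩ from Subtype.ext (by simpa using e1)]
        exact mem_zpowers _
    · exact h.proj_z
  have hcard : Nat.card E' = 8 := by
    rw [hE', Nat.card_congr (subgroupOfEquivOfLe h.omegaZ_le_cz).toEquiv, h.card_omegaZ]
  have h2 : Nat.card ((proj z).comp E'.subtype).ker = 2 := by
    have he : (((proj z).comp E'.subtype).ker).map E'.subtype = (proj z).ker ⊓ E' := by
      ext x
      constructor
      · rintro ⟨y, hy, rfl⟩
        exact ⟨hy, y.2⟩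
      · rintro ⟨hx1, hx2⟩
        exact ⟨⟨x, hx2⟩, hx1, rfl⟩
    rw [← card_subtype E', he, hker, Nat.card_zpowers, Subgroup.orderOf_mk,
      orderOf_of_mem_omegaZ h.mem h.ne]
  have h3 := Subgroup.card_eq_card_quotient_mul_card_subgroup ((proj z).comp E'.subtype).ker
  rw [hcard, h2, Nat.card_congr (QuotientGroup.quotientKerEquivRange _).toEquiv,
    MonoidHom.range_comp, Subgroup.range_subtype] at h3
  change 8 = Nat.card (omegaBar S z) * 2 at h3
  omega

theorem omegaBar_mem_memb {x : Cbar z} (hx : x ∈ omegaBar S z) (h1 : x ≠ 1) : x ∈ memb S z := by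
  obtain ⟨e, he, rfl⟩ := h.mem_omegaBar.1 hx
  refine h.memb_mem he (fun e1 => h1 ?_) (fun e1 => h1 ?_)
  · rw [show e = 1 from Subtype.ext e1, map_one]
  · rw [show e = ⟨z, mem_centralizer_singleton_iff.2 rfl⟩ from Subtype.ext e1, h.proj_z]

theorem memb_pt_iff {x : Cbar z} : (x ∈ memb S z ∧ x • h.pt = h.pt) ↔ x ∈ omegaBar S z ∧ x ≠ 1 := by
  refine ⟨fun ⟨hx, hp⟩ => ?_, fun ⟨hx, h1⟩ => ⟨h.omegaBar_mem_memb hx h1, ?_⟩⟩
  · obtain ⟨e, he, -, -, rfl⟩ := h.exists_of_memb_pt hx hp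
    exact ⟨h.mem_omegaBar.2 ⟨e, he, rfl⟩,
      CfsgLib.Involutions.ne_one_of_involution (h.memb_orderOf hx)⟩
  · obtain ⟨e, he, rfl⟩ := h.mem_omegaBar.1 hx
    exact h.proj_pt he

end Data

end CfsgLib.SylInter
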