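import Cfsg.Agent.Lib.SylInter.Basic
import Cfsg.Agent.Lib.StrongCrit.ConsumerS1174
import Cfsg.Agent.Lib.StrongCrit.SecOdd
import Cfsg.Agent.Lib.BenderQ.Classify
import Cfsg.Agent.Lib.BenderQ.Bender
import Cfsg.Agent.Lib.BenderQ.RankOne

/-!
If the centralisers of all the central involutions of `S` normalise `S`, then `Ω₁(Z(S))` is strongly
closed and the group is of Bender type.
-/

set_option autoImplicit false
set_option linter.style.haveILetI false

namespace CfsgLib.SylInter

open Subgroup CfsgLib.StrongCrit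

universe u

variable {G : Type u} [Group G] [Finite G]

theorem exists_noncomm (hG : ¬ IsMulCommutative G) : ∃ a b : G, a * b ≠ b * a := by
  by_contra h
  push Not at h
  exact hG ⟨⟨h⟩⟩

/-- The Sylow normaliser of a non-abelian simple group is proper. -/
theorem normalizer_sylow_ne_top [IsSimpleGroup G] (hG : ¬ IsMulCommutative G) {S : Sylow 2 G}
    (hS : (S : Subgroup G) ≠ ⊥) : normalizer ((S : Subgroup G) : Set G) ≠ ⊤ := by
  haveI : Fact (Nat.Prime 2) := ⟨Nat.prime_two⟩
  intro e
  have htop : (S : Subgroup G) = ⊤ :=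
    ((normalizer_eq_top_iff.1 e).eq_bot_or_eq_top).resolve_left hS
  have hP : IsPGroup 2 G := fun g => by
    obtain ⟨k, hk⟩ := S.isPGroup' ⟨g, htop ▸ mem_top g⟩
    exact ⟨k, by simpa using congrArg Subtype.val hk⟩
  haveI : Nontrivial G := IsSimpleGroup.toNontrivial
  haveI := hP.center_nontrivial
  have hc : center G = ⊤ :=
    ((inferInstance : (center G).Normal).eq_bot_or_eq_top).resolve_left fun h =>
      not_nontrivial (⊥ : Subgroup G) (h ▸ (inferInstance : Nontrivial (center G)))
  exact hG ⟨⟨fun a b => (mem_center_iff.1 (hc ▸ mem_top b) a)⟩⟩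

/-- The case of centralisers normalising `S`. -/
theorem isBenderType_of_cent_le [IsSimpleGroup G] (main : CriterionMain.{u}) (hR : RankOneInter G)
    (hG : ¬ IsMulCommutative G) (S : Sylow 2 G) (h0 : omegaZ S ≠ ⊥)
    (hle : ∀ e ∈ omegaZ S, e ≠ 1 →
      centralizer ({e} : Set G) ≤ normalizer ((S : Subgroup G) : Set G)) :
    BenderQ.IsBenderType G := by
  have hclosed : Cfsg.IsStronglyClosed (omegaZ S) (S : Subgroup G) := by
    refine ⟨omegaZ_le, fun x hx g hg => ?_⟩
    rcases eq_or_ne x 1 with rfl | h1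
    · rw [mul_one, mul_inv_cancel]
      exact one_mem _
    · exact (hR.exists_normalizer hx h1 hg).1
  have hN : normalizer ((S : Subgroup G) : Set G) ≠ ⊤ :=
    normalizer_sylow_ne_top hG fun e => h0 (le_bot_iff.1 (e ▸ omegaZ_le))
  have hprop : (⨆ t : {t : G // t ∈ omegaZ S ∧ orderOf t = 2},
      centralizer ({(t : G)} : Set G)) ≠ ⊤ := fun e =>
    hN (top_le_iff.1 (e.symm.trans_le (iSup_le fun t =>
      hle t t.2.1 (CfsgLib.Involutions.ne_one_of_involution t.2.2))))
  have bad : BadOutside.{u} := fun _ _ _ _ _ _ _ h hfaith _ hw =>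
    h.notMem_closure_of_bad main hfaith hw
  obtain ⟨H, hH⟩ := StronglyClosed.exists_stronglyEmbedded bad h0 hclosed hprop
  exact BenderQ.simple_isBenderType BenderQ.benderKernel BenderQ.rankOneClass (exists_noncomm hG) hH

end CfsgLib.SylInter
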