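import Mathlib
import Cfsg.Agent.Lib.InvChar.UniqueInvolution

/-!
Actions of 5-groups on 2-groups: fixed points modulo five, the order of a group acting freely on
sixty elements, and 2-groups with one involution.
-/

set_option autoImplicit false
set_option linter.style.haveILetI false

namespace CfsgLib.SylInter

open Subgroup

universe u

variable {G : Type u} [Group G] [Finite G]

/-- The fixed points of a 5-group normalising `X`, modulo five. -/
theorem card_modEq_five {P X : Subgroup G} (hP : IsPGroup 5 P)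
    (hX : ∀ p ∈ P, ∀ x ∈ X, p * x * p⁻¹ ∈ X) :
    Nat.card X ≡ Nat.card (X ⊓ centralizer (P : Set G) : Subgroup G) [MOD 5] := by
  haveI : Fact (Nat.Prime 5) := ⟨by norm_num⟩
  letI : MulAction P X :=
    { smul := fun p x => ⟨(p : G) * x * (p : G)⁻¹, hX p p.2 x x.2⟩
      one_smul := fun x => Subtype.ext (show (1 : G) * x * 1⁻¹ = x by group)
      mul_smul := fun p q x => Subtype.ext
        (show ((p : G) * q) * x * ((p : G) * q)⁻¹ = (p : G) * ((q : G) * x * (q : G)⁻¹) * (p : G)⁻¹ by
          group) }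
  refine (hP.card_modEq_card_fixedPoints X).trans (congrArg (· % 5) (Nat.card_congr ?_))
  exact
    { toFun := fun x => ⟨x.1, x.1.2, mem_centralizer_iff.2 fun p hp =>
        mul_inv_eq_iff_eq_mul.1 (congrArg Subtype.val (x.2 ⟨p, hp⟩))⟩
      invFun := fun y => ⟨⟨y.1, y.2.1⟩, fun p => Subtype.ext
        (show (p : G) * y * (p : G)⁻¹ = y from
          mul_inv_eq_iff_eq_mul.2 (mem_centralizer_iff.1 y.2.2 p p.2))⟩
      left_inv := fun _ => rfl
      right_inv := fun _ => rfl }

/-- A 5-group acting freely on sixty elements has order at most five. -/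
theorem card_le_five {P : Type*} [Group P] [Finite P] (hP : IsPGroup 5 P) {X : Type*} [MulAction P X]
    [Finite X] (hX : Nat.card X = 60) (hfree : ∀ (p : P) (x : X), p • x = x → p = 1) :
    Nat.card P ≤ 5 := by
  classical
  haveI : Fact (Nat.Prime 5) := ⟨by norm_num⟩
  have hstab : ∀ x : X, MulAction.stabilizer P x = ⊥ := fun x =>
    (eq_bot_iff_forall _).2 fun p hp => hfree p x hp
  letI : Fintype (Quotient (MulAction.orbitRel P X)) := Fintype.ofFinite _
  have h1 := Nat.card_congr (MulAction.selfEquivSigmaOrbitsQuotientStabilizer P X)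
  rw [Nat.card_sigma, hX] at h1
  have h2 : ∀ ω : Quotient (MulAction.orbitRel P X),
      Nat.card (P ⧸ MulAction.stabilizer P ω.out) = Nat.card P := fun ω => by
    have := Subgroup.card_eq_card_quotient_mul_card_subgroup (MulAction.stabilizer P ω.out)
    rw [hstab, Subgroup.card_bot, mul_one] at this
    rw [hstab]
    exact this.symm
  rw [Finset.sum_congr rfl fun ω _ => h2 ω, Finset.sum_const, smul_eq_mul] at h1
  obtain ⟨k, hk⟩ := IsPGroup.iff_card.1 hP
  have hd : 5 ^ k ∣ 60 := ⟨_, by rw [h1, hk, mul_comm]⟩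
  rw [hk]
  rcases Nat.lt_or_ge k 2 with h | h
  · calc 5 ^ k ≤ 5 ^ 1 := Nat.pow_le_pow_right (by norm_num) (by omega)
      _ = 5 := pow_one 5
  · exact absurd ((pow_dvd_pow 5 h).trans hd) (by norm_num)

/-- A 5-element normalising a 2-group `X` with one involution, which it fixes, centralises `X`. -/
theorem commute_of_unique_involution {X : Subgroup G} (hX : IsPGroup 2 X) {p z : G} {a : ℕ}
    (hp : p ^ 5 ^ a = 1) (hn : ∀ x ∈ X, p * x * p⁻¹ ∈ X) (hz : z ∈ X) (hz2 : orderOf z = 2)
    (huniq : ∀ x ∈ X, orderOf x = 2 → x = z) (hpz : Commute p z) :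
    ∀ x ∈ X, Commute p x := by
  haveI : Fact (Nat.Prime 2) := ⟨Nat.prime_two⟩
  haveI : Fact (Nat.Prime 5) := ⟨by norm_num⟩
  -- an element commuting with its conjugate whose square is fixed is fixed
  have step : ∀ x ∈ X, Commute x (p * x * p⁻¹) → Commute p (x ^ 2) → Commute p x := by
    intro x hx hc h2
    set w := x⁻¹ * (p * x * p⁻¹) with hw
    have hwX : w ∈ X := mul_mem (inv_mem hx) (hn x hx)
    have hww : w * w = 1 := by
      rw [hw, show x⁻¹ * (p * x * p⁻¹) * (x⁻¹ * (p * x * p⁻¹)) =
        x⁻¹ * ((p * x * p⁻¹) * x⁻¹) * (p * x * p⁻¹) by group, ← hc.inv_left.eq]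
      calc x⁻¹ * (x⁻¹ * (p * x * p⁻¹)) * (p * x * p⁻¹) = (x ^ 2)⁻¹ * (p * x ^ 2 * p⁻¹) := by
            rw [pow_two]; group
        _ = 1 := by rw [h2.eq, mul_inv_cancel_right, inv_mul_cancel]
    have hwp : Commute p w := by
      rcases eq_or_ne w 1 with e | e
      · rw [e]; exact Commute.one_right p
      · rw [huniq w hwX (orderOf_eq_prime (by rw [pow_two, hww]) e)]; exact hpz
    have hiter : ∀ n : ℕ, p ^ n * x * (p ^ n)⁻¹ = x * w ^ n := by
      intro n
      induction n with
      | zero => simp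
      | succ n ih =>
        calc p ^ (n + 1) * x * (p ^ (n + 1))⁻¹ = p * (p ^ n * x * (p ^ n)⁻¹) * p⁻¹ := by
              rw [pow_succ']; group
          _ = (p * x * p⁻¹) * (p * w ^ n * p⁻¹) := by rw [ih]; group
          _ = x * w ^ (n + 1) := by
            rw [(hwp.pow_right n).eq, mul_inv_cancel_right, pow_succ', ← mul_assoc]
            congr 1
            rw [hw, mul_inv_cancel_left]
    have h5 := hiter (5 ^ a)
    rw [hp, one_mul, inv_one, mul_one] at h5
    obtain ⟨m, hm⟩ : Odd (5 ^ a) := (by decide : Odd 5).pow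
    have hw1 : w = 1 := by
      have e : w ^ (5 ^ a) = 1 := mul_eq_left.1 h5.symm
      rwa [hm, pow_succ, pow_mul, pow_two, hww, one_pow, one_mul] at e
    rw [hw, inv_mul_eq_one] at hw1
    exact mul_inv_eq_iff_eq_mul.1 hw1.symm
  -- so `p` fixes an abelian invariant subgroup
  have habel : ∀ Y : Subgroup G, Y ≤ X → (∀ y ∈ Y, ∀ y' ∈ Y, Commute y y') →
      (∀ y ∈ Y, p * y * p⁻¹ ∈ Y) → ∀ y ∈ Y, Commute p y := by
    intro Y hYX hYc hYn
    suffices h : ∀ e : ℕ, ∀ y ∈ Y, y ^ 2 ^ e = 1 → Commute p y by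
      intro y hy
      obtain ⟨e, he⟩ := hX ⟨y, hYX hy⟩
      exact h e y hy (congrArg Subtype.val he)
    intro e
    induction e with
    | zero =>
      intro y _ h1
      rw [pow_zero, pow_one] at h1
      rw [h1]
      exact Commute.one_right p
    | succ e ih =>
      intro y hy h1
      exact step y (hYX hy) (hYc y hy _ (hYn y hy))
        (ih (y ^ 2) (pow_mem hy 2) (by rw [← pow_mul, ← pow_succ']; exact h1))
  by_cases hab : IsMulCommutative X
  · exact habel X le_rfl
      (fun y hy y' hy' => congrArg Subtype.val (hab.is_comm.comm ⟨y, hy⟩ ⟨y', hy'⟩)) hn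
  obtain ⟨c, m, hm, hc, hidx, hout⟩ := CfsgLib.InvChar.exists_cyclic_index_two hX hab
    (fun u v hu hv => Subtype.ext ((huniq u u.2 (by rwa [Subgroup.orderOf_coe])).trans
      (huniq v v.2 (by rwa [Subgroup.orderOf_coe])).symm))
  have hcardX : Nat.card X = 2 ^ (m + 1) := by
    rw [← (zpowers c).card_mul_index, hidx, Nat.card_zpowers, hc, pow_succ]
  -- the centraliser of `p` in `X` has index at most eight
  set C := X ⊓ centralizer (zpowers p : Set G) with hC
  have hfive : IsPGroup 5 (zpowers p) := fun ⟨q, hq⟩ => ⟨a, Subtype.ext (by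
    obtain ⟨i, rfl⟩ := hq
    show (p ^ i) ^ 5 ^ a = 1
    rw [← zpow_natCast, ← zpow_mul, mul_comm, zpow_mul, zpow_natCast, hp, one_zpow])⟩
  have hmem : ∀ y ∈ X, Commute p y → y ∈ C := fun y hy h => ⟨hy, mem_centralizer_iff.2 fun q hq => by
    obtain ⟨i, rfl⟩ := hq
    exact (h.zpow_left i).eq⟩
  have hlarge : 2 ^ (m + 1) ≤ 8 * Nat.card C := by
    rcases Nat.lt_or_ge m 3 with h | h
    · have h1 := Nat.card_pos (α := C)
      have := Nat.pow_le_pow_right two_pos (show m + 1 ≤ 3 by omega)
      omega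
    -- the elements of the cyclic subgroup are fixed
    have hpc : p * (c : G) * p⁻¹ ∈ (zpowers c).map X.subtype := by
      refine ⟨⟨_, hn c c.2⟩, ?_, rfl⟩
      by_contra hne
      have e1 : ((⟨_, hn c c.2⟩ : X) ^ 2) ^ 2 = 1 := by
        rw [(hout _ hne).2, ← pow_mul, ← pow_succ, show m - 1 + 1 = m by omega, ← hc,
          pow_orderOf_eq_one]
      have e2 : (c : G) ^ 4 = 1 := by
        have e3 := congrArg Subtype.val e1
        rw [← pow_mul] at e3
        simp only [Subgroup.coe_pow, Subgroup.coe_one] at e3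
        rw [conj_pow, conj_eq_one_iff] at e3
        exact e3
      have e4 := orderOf_dvd_of_pow_eq_one e2
      rw [Subgroup.orderOf_coe, hc] at e4
      have e5 := Nat.le_of_dvd (by norm_num) e4
      have := Nat.pow_le_pow_right two_pos h
      omega
    have hfix := habel ((zpowers c).map X.subtype) (map_subtype_le _)
      (by
        rintro _ ⟨u, hu, rfl⟩ _ ⟨v, hv, rfl⟩
        obtain ⟨i, rfl⟩ := hu
        obtain ⟨j, rfl⟩ := hv
        exact congrArg Subtype.val (Commute.zpow_zpow_self c i j).eq)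
      (by
        rintro _ ⟨u, hu, rfl⟩
        obtain ⟨i, rfl⟩ := hu
        have : p * X.subtype (c ^ i) * p⁻¹ = (p * (c : G) * p⁻¹) ^ i := by
          rw [conj_zpow]; rfl
        rw [this]
        exact zpow_mem hpc i)
    have hle : (zpowers c).map X.subtype ≤ C := fun y hy =>
      hmem y (map_subtype_le _ hy) (hfix y hy)
    have := Nat.le_of_dvd Nat.card_pos (card_dvd_of_le hle)
    rw [card_subtype, Nat.card_zpowers, hc] at this
    rw [pow_succ]
    omega
  have hmod : 2 ^ (m + 1) ≡ Nat.card C [MOD 5] := by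
    rw [← hcardX]
    refine card_modEq_five hfive fun q hq x hx => ?_
    have key : ∀ n : ℕ, ∀ x ∈ X, p ^ n * x * (p ^ n)⁻¹ ∈ X := by
      intro n
      induction n with
      | zero => intro x hx; simpa using hx
      | succ n ih =>
        intro x hx
        have := hn _ (ih x hx)
        rw [pow_succ']
        convert this using 1
        group
    obtain ⟨n, rfl⟩ := mem_powers_iff_mem_zpowers.2 hq
    exact key n x hx
  have hCX : Nat.card C = 2 ^ (m + 1) := by
    obtain ⟨j, hj, hjeq⟩ :=
      (Nat.dvd_prime_pow Nat.prime_two).1 (hcardX ▸ card_dvd_of_le (inf_le_left : C ≤ X))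
    rw [hjeq] at hlarge hmod ⊢
    obtain ⟨d, hd⟩ : ∃ d, m + 1 = j + d := ⟨m + 1 - j, by omega⟩
    have hd3 : d ≤ 3 := by
      by_contra hcon
      have h16 : 2 ^ 4 ≤ 2 ^ d := Nat.pow_le_pow_right two_pos (by omega)
      rw [hd, pow_add] at hlarge
      have := Nat.one_le_two_pow (n := j)
      nlinarith
    rw [hd, pow_add] at hmod
    conv_rhs at hmod => rw [← mul_one (2 ^ j)]
    have h5 : 2 ^ d ≡ 1 [MOD 5] :=
      Nat.ModEq.cancel_left_of_coprime (c := 2 ^ j) (by
        show Nat.gcd 5 (2 ^ j) = 1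
        exact Nat.Coprime.pow_right j (by norm_num)) hmod
    have hd0 : d = 0 := by
      interval_cases d <;> first
        | rfl
        | exact absurd h5 (by decide)
    rw [hd, hd0, add_zero]
  intro x hx
  have hxC : x ∈ C := by
    have e : C = X := eq_of_le_of_card_ge inf_le_left (by rw [hCX, hcardX])
    rw [e]
    exact hx
  exact mem_centralizer_iff.1 hxC.2 p (mem_zpowers p)

end CfsgLib.SylInter
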