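import Cfsg.Agent.Lib.SylInter.Kernel

/-!
The unitary case inside the permutation group: the group of order 64 at the point `S`, and the
5-elements fixing `S`.
-/

set_option autoImplicit false
set_option linter.style.haveILetI false
set_option linter.unusedSectionVars false

namespace CfsgLib.SylInter

open Subgroup MulAction CfsgLib.Involutions CfsgLib.StrongCrit

universe u

variable {G : Type u} [Group G] [Finite G] {S : Sylow 2 G} {z : G}

namespace UnitaryData

variable {h : Data S z} {Q : Subgroup (Lbar S z)} (hD : UnitaryData h Q) (main : CriterionMain.{u})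
include hD

/-- The subgroup of order 64 as permutations. -/
abbrev img (_hD : UnitaryData h Q) : Subgroup (Cbar z) := Q.map (Lbar S z).subtype

theorem card_img : Nat.card hD.img = 64 := by rw [card_subtype, hD.card]

theorem img_pt {q : Cbar z} (hq : q ∈ hD.img) : q • h.pt = h.pt := by
  obtain ⟨q, hq', rfl⟩ := hq
  exact mem_stabilizer_iff.1 (hD.kernel.le hq')

theorem img_two : IsPGroup 2 hD.img := hD.kernel.isTwo.map _

include main in
/-- The 2-elements of the group fixing `S` are in the subgroup of order 64. -/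
theorem mem_img {g : Cbar z} (hg : g ∈ Lbar S z) (hp : g • h.pt = h.pt)
    (h2 : ∃ a, orderOf g ∣ 2 ^ a) : g ∈ hD.img := by
  haveI : Fact (Nat.Prime 2) := ⟨Nat.prime_two⟩
  obtain ⟨SL, hSL⟩ := hD.kernel.exists_sylow (h.oneFix main)
  refine ⟨⟨g, hg⟩, ?_, rfl⟩
  rw [← hSL]
  refine mem_sylow_of_normalizer SL (by simpa [Subgroup.orderOf_mk] using h2) ?_
  rw [hSL, hD.kernel.normalizer_eq (h.oneFix main)]
  exact hp

/-- The subgroup of order 64 comes from `S`. -/
theorem exists_lift {q : Cbar z} (hq : q ∈ hD.img) :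
    ∃ s : Cz z, (s : G) ∈ (S : Subgroup G) ∧ proj z s = q := by
  haveI : Fact (Nat.Prime 2) := ⟨Nat.prime_two⟩
  obtain ⟨k, hk⟩ := IsPGroup.iff_orderOf.1 hD.img_two ⟨q, hq⟩
  rw [← Subgroup.orderOf_coe] at hk
  obtain ⟨c, hcq⟩ := proj_surjective q
  obtain ⟨j, hj, a, ha⟩ := exists_two_lift (proj z) (x := c) (by rw [hcq]; exact hk)
  refine ⟨c ^ j, mem_sylow_of_normalizer S ⟨a, by rw [Subgroup.orderOf_coe]; exact ha⟩ ?_,
    by rw [hj, hcq]⟩
  refine h.smul_pt_iff.1 ?_
  rw [← proj_smul, hj, hcq]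
  exact hD.img_pt hq

theorem commute_img {q x : Cbar z} (hq : q ∈ hD.img) (hx : x ∈ omegaBar S z) : Commute q x := by
  obtain ⟨s, hs, rfl⟩ := hD.exists_lift hq
  exact h.commute_sylow_omegaBar hs hx

include main in
theorem omegaBar_le_img : omegaBar S z ≤ hD.img := by
  intro x hx
  rcases eq_or_ne x 1 with rfl | h1
  · exact one_mem _
  · refine hD.mem_img main (h.omegaBar_le_lbar hx) ?_ ⟨1, ?_⟩
    · exact (h.memb_pt_iff.2 ⟨hx, h1⟩).2
    · rw [h.memb_orderOf (h.omegaBar_mem_memb hx h1), pow_one]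

include main in
theorem conj_mem_img {g q : Cbar z} (hg : g • h.pt = h.pt) (hq : q ∈ hD.img) :
    g * q * g⁻¹ ∈ hD.img := by
  haveI : Fact (Nat.Prime 2) := ⟨Nat.prime_two⟩
  obtain ⟨k, hk⟩ := IsPGroup.iff_orderOf.1 hD.img_two ⟨q, hq⟩
  rw [← Subgroup.orderOf_coe] at hk
  refine hD.mem_img main (h.conj_lbar g (map_subtype_le _ hq)) ?_
    ⟨k, by rw [orderOf_conj_eq]; exact hk.dvd⟩
  have e : g⁻¹ • h.pt = h.pt := by rw [inv_smul_eq_iff, hg]
  rw [mul_smul, mul_smul, e, hD.img_pt hq, hg]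

theorem mul_self_mem {q : Cbar z} (hq : q ∈ hD.img) : q * q ∈ omegaBar S z := by
  obtain ⟨q, hq', rfl⟩ := hq
  exact hD.sq q hq'

/-- A 5-element fixing `S` centralises the image of `omegaZ S`. -/
theorem commute_of_five {g : Cbar z} (hg : g • h.pt = h.pt) {k : ℕ} (h5 : g ^ 5 ^ k = 1) {x : Cbar z}
    (hx : x ∈ omegaBar S z) : Commute g x := by
  rcases eq_or_ne x 1 with rfl | hx1
  · exact Commute.one_right g
  obtain ⟨s, t, hs, ht, hs1, ht1, hst, hc, hall⟩ := h.exists_three
  have hswap : ∀ a b : Cbar z, a ∈ omegaBar S z → g * a * g⁻¹ = b → g * b * g⁻¹ = a → a = b :=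
    fun a b ha => h.not_swap hg ha
  have hne1 : ∀ a : Cbar z, a ≠ 1 → g * a * g⁻¹ ≠ 1 := fun a ha e => ha (by simpa using e)
  set x₁ := g * x * g⁻¹ with hx1'
  set x₂ := g * x₁ * g⁻¹ with hx2'
  set x₃ := g * x₂ * g⁻¹ with hx3'
  have m1 := h.conj_omegaBar hg hx
  have m2 := h.conj_omegaBar hg m1
  have m3 := h.conj_omegaBar hg m2
  have hinj : ∀ a b : Cbar z, g * a * g⁻¹ = g * b * g⁻¹ → a = b := fun a b e =>
    mul_left_cancel (mul_right_cancel e)
  have h3 : x₃ = x := by
    rcases eq_or_ne x₁ x with e | e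
    · rw [hx3', hx2', e]
      simp only [← hx1', e]
    have e2 : x₂ ≠ x := fun e' => e (hswap x x₁ hx hx1'.symm e').symm
    have e12 : x₂ ≠ x₁ := fun e' => e (hinj _ _ e')
    have e32 : x₃ ≠ x₂ := fun e' => e12 (hinj _ _ e')
    have e31 : x₃ ≠ x₁ := fun e' => e2 (hinj _ _ e')
    have n1 : x₁ ≠ 1 := hne1 x hx1
    have n2 : x₂ ≠ 1 := hne1 _ n1
    have n3 : x₃ ≠ 1 := hne1 _ n2
    by_contra hcon
    classical
    have hsub : ({1, x, x₁, x₂, x₃} : Finset (Cbar z)) ⊆ {1, s, t, s * t} := by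
      intro w hw
      simp only [Finset.mem_insert, Finset.mem_singleton] at hw ⊢
      rcases hw with rfl | rfl | rfl | rfl | rfl
      · exact Or.inl rfl
      · exact hall _ hx
      · exact hall _ m1
      · exact hall _ m2
      · exact hall _ m3
    have hle := (Finset.card_le_card hsub).trans Finset.card_le_four
    have c5 : ({1, x, x₁, x₂, x₃} : Finset (Cbar z)).card = 5 := by
      rw [Finset.card_insert_of_notMem, Finset.card_insert_of_notMem, Finset.card_insert_of_notMem,
        Finset.card_insert_of_notMem, Finset.card_singleton]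
      · simpa using e32.symm
      · simpa using And.intro e12.symm e31.symm
      · simpa using And.intro e.symm (And.intro e2.symm (Ne.symm hcon))
      · simpa using And.intro hx1.symm (And.intro n1.symm (And.intro n2.symm n3.symm))
    omega
  have hc3 : Commute (g ^ 3) x := by
    have : g ^ 3 * x * (g ^ 3)⁻¹ = x := by
      conv_rhs => rw [← h3, hx3', hx2', hx1']
      rw [pow_succ, pow_succ, pow_one]
      group
    exact mul_inv_eq_iff_eq_mul.1 this
  obtain ⟨u, -, hu⟩ := Nat.exists_mul_mod_eq_one_of_coprime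
    (show Nat.Coprime 3 (5 ^ (k + 1)) from Nat.Coprime.pow_right _ (by norm_num))
    (Nat.one_lt_pow (by omega) (by norm_num))
  have e : (g ^ 3) ^ u = g := by
    rw [← pow_mul, ← Nat.mod_add_div (3 * u) (5 ^ (k + 1)), hu, pow_add, pow_one, pow_mul, pow_succ,
      pow_mul, h5, one_pow, one_pow, mul_one]
  have := hc3.pow_left u
  rwa [e] at this

include main in
/-- A 5-element fixing `S` and centralising the subgroup of order 64 is trivial. -/
theorem eq_one_of_commute {g : Cbar z} (hg : g • h.pt = h.pt) {k : ℕ} (h5 : g ^ 5 ^ k = 1)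
    (hc : ∀ q ∈ hD.img, Commute g q) : g = 1 := by
  haveI : Fact (Nat.Prime 5) := ⟨by norm_num⟩
  have hP : IsPGroup 5 (zpowers g) := fun ⟨y, hy⟩ => ⟨k, Subtype.ext (by
    obtain ⟨i, rfl⟩ := hy
    show (g ^ i) ^ 5 ^ k = 1
    rw [← zpow_natCast, ← zpow_mul, mul_comm, zpow_mul, zpow_natCast, h5, one_zpow])⟩
  have hmod := hP.card_modEq_card_fixedPoints (Sylow 2 (Cz z))
  rw [h.card_pts hD.kernel, hD.card] at hmod
  obtain ⟨y, hy, hyne⟩ : ∃ y ∈ fixedPoints (zpowers g) (Sylow 2 (Cz z)), y ≠ h.pt := by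
    by_contra hcon
    push Not at hcon
    have hsingle : fixedPoints (zpowers g) (Sylow 2 (Cz z)) = {h.pt} := by
      refine Set.Subset.antisymm (fun y hy => hcon y hy) (Set.singleton_subset_iff.2 fun p => ?_)
      have : ∀ p ∈ zpowers g, p • h.pt = h.pt :=
        (zpowers_le.2 (mem_stabilizer_iff.2 hg) : zpowers g ≤ stabilizer (Cbar z) h.pt)
      exact this p p.2
    rw [hsingle, Nat.card_eq_one_iff_unique.2 ⟨inferInstance, inferInstance⟩] at hmod
    exact absurd hmod (by decide)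
  refine cbar_faithful g fun x => ?_
  rcases eq_or_ne x h.pt with rfl | hx
  · exact hg
  obtain ⟨q, hq, hqx⟩ := hD.kernel.trans y x hyne hx
  have hgy : g • y = y := hy ⟨g, mem_zpowers g⟩
  have hcq := hc q ⟨q, hq, rfl⟩
  rw [← hqx]
  show g • (q : Cbar z) • y = (q : Cbar z) • y
  rw [smul_smul, hcq.eq, mul_smul, hgy]

include main in
/-- The fixed subgroup of a non-trivial 5-group fixing `S` is the image of `omegaZ S`. -/
theorem inf_centralizer_eq {P : Subgroup (Cbar z)} (hP : IsPGroup 5 P)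
    (hPpt : ∀ p ∈ P, p • h.pt = h.pt) (hne : P ≠ ⊥) :
    hD.img ⊓ centralizer (P : Set (Cbar z)) = omegaBar S z := by
  haveI : Fact (Nat.Prime 5) := ⟨by norm_num⟩
  haveI : Fact (Nat.Prime 2) := ⟨Nat.prime_two⟩
  set C := hD.img ⊓ centralizer (P : Set (Cbar z)) with hC
  have hle : omegaBar S z ≤ C := fun x hx => ⟨hD.omegaBar_le_img main hx,
    mem_centralizer_iff.2 fun p hp => by
      obtain ⟨k, hk⟩ := hP ⟨p, hp⟩
      exact (hD.commute_of_five (hPpt p hp) (congrArg Subtype.val hk) hx).eq⟩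
  have hmod := card_modEq_five hP (X := hD.img) fun p hp q hq => hD.conj_mem_img main (hPpt p hp) hq
  rw [← hC, hD.card_img] at hmod
  have h4 : 4 ∣ Nat.card C := by
    have := card_dvd_of_le hle
    rwa [h.card_omegaBar] at this
  obtain ⟨j, hj, hje⟩ := (Nat.dvd_prime_pow Nat.prime_two).1
    (show Nat.card C ∣ 2 ^ 6 by
      have := card_dvd_of_le (inf_le_left : C ≤ hD.img)
      rwa [hD.card_img] at this)
  have hj2 : j = 2 ∨ j = 6 := by
    rw [hje] at hmod h4
    interval_cases j
    · norm_num at h4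
    · norm_num at h4
    · exact Or.inl rfl
    · exact absurd hmod (by decide)
    · exact absurd hmod (by decide)
    · exact absurd hmod (by decide)
    · exact Or.inr rfl
  rcases hj2 with rfl | rfl
  · exact (eq_of_le_of_card_ge hle (by rw [hje, h.card_omegaBar]; norm_num)).symm
  · exfalso
    obtain ⟨p, hp, hp1⟩ := (bot_or_exists_ne_one P).resolve_left hne
    obtain ⟨k, hk⟩ := hP ⟨p, hp⟩
    refine hp1 (hD.eq_one_of_commute main (hPpt p hp) (congrArg Subtype.val hk) fun q hq => ?_)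
    have e : C = hD.img := eq_of_le_of_card_ge inf_le_left (by rw [hje, hD.card_img]; norm_num)
    rw [← e] at hq
    exact mem_centralizer_iff.1 hq.2 p hp

include main in
/-- A 5-group fixing `S` has order at most five. -/
theorem card_five_group {P : Subgroup (Cbar z)} (hP : IsPGroup 5 P)
    (hPpt : ∀ p ∈ P, p • h.pt = h.pt) : Nat.card P ≤ 5 := by
  haveI : Fact (Nat.Prime 5) := ⟨by norm_num⟩
  let X := {q : hD.img // (q : Cbar z) ∉ omegaBar S z}
  have hmem : ∀ {p : Cbar z}, p ∈ P → ∀ {x : Cbar z}, x ∈ omegaBar S z → Commute p x :=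
    fun {p} hp {x} hx => by
      obtain ⟨k, hk⟩ := hP ⟨p, hp⟩
      exact hD.commute_of_five (hPpt p hp) (congrArg Subtype.val hk) hx
  letI : MulAction P X :=
    { smul := fun p q => ⟨⟨(p : Cbar z) * q.1 * (p : Cbar z)⁻¹,
          hD.conj_mem_img main (hPpt p p.2) q.1.2⟩, fun e => q.2 (by
        have h1 := (hmem (inv_mem p.2) e).eq
        rw [show (q.1 : Cbar z) = (p : Cbar z)⁻¹ * ((p : Cbar z) * q.1 * (p : Cbar z)⁻¹) * p by group,
          h1, inv_mul_cancel_right]
        exact e)⟩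
      one_smul := fun q => Subtype.ext (Subtype.ext
        (show (1 : Cbar z) * q.1 * 1⁻¹ = q.1 by group))
      mul_smul := fun p p' q => Subtype.ext (Subtype.ext
        (show ((p : Cbar z) * p') * q.1 * ((p : Cbar z) * p')⁻¹ =
          (p : Cbar z) * ((p' : Cbar z) * q.1 * (p' : Cbar z)⁻¹) * (p : Cbar z)⁻¹ by group)) }
  have hX : Nat.card X = 60 := by
    classical
    letI : Fintype hD.img := Fintype.ofFinite _
    have hsub : Nat.card {q : hD.img // (q : Cbar z) ∈ omegaBar S z} = 4 := by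
      rw [← h.card_omegaBar]
      exact Nat.card_congr
        { toFun := fun q => ⟨q.1.1, q.2⟩
          invFun := fun x => ⟨⟨x.1, hD.omegaBar_le_img main x.2⟩, x.2⟩
          left_inv := fun _ => rfl
          right_inv := fun _ => rfl }
    rw [Nat.card_eq_fintype_card] at hsub
    rw [Nat.card_eq_fintype_card, Fintype.card_subtype_compl, hsub, ← Nat.card_eq_fintype_card,
      hD.card_img]
  refine card_le_five hP hX fun p q hpq => ?_
  by_contra hp1
  have hne : zpowers (p : Cbar z) ≠ ⊥ := fun e => hp1 (Subtype.ext (zpowers_eq_bot.1 e))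
  have hC := hD.inf_centralizer_eq main (hP.to_le (zpowers_le.2 p.2))
    (fun y hy => hPpt y (zpowers_le.2 p.2 hy)) hne
  refine q.2 (hC.le ⟨q.1.2, mem_centralizer_iff.2 fun y hy => ?_⟩)
  obtain ⟨i, rfl⟩ := hy
  have e : (p : Cbar z) * q.1 * (p : Cbar z)⁻¹ = q.1 :=
    congrArg (fun x : X => (x.1 : Cbar z)) hpq
  exact ((show Commute (p : Cbar z) (q.1 : Cbar z) from mul_inv_eq_iff_eq_mul.1 e).zpow_left i).eq

include main in
/-- A subgroup of the group of order 64 invariant under a non-trivial 5-element and above the image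
of `omegaZ S` is one of the two. -/
theorem eq_img {d : Cbar z} (hd : d • h.pt = h.pt) (hd5 : orderOf d = 5) {X : Subgroup (Cbar z)}
    (hX : X ≤ hD.img) (hWX : omegaBar S z ≤ X) (hinv : ∀ x ∈ X, d * x * d⁻¹ ∈ X)
    {u : Cbar z} (hu : u ∈ X) (hu' : u ∉ omegaBar S z) : X = hD.img := by
  haveI : Fact (Nat.Prime 5) := ⟨by norm_num⟩
  haveI : Fact (Nat.Prime 2) := ⟨Nat.prime_two⟩
  have hP : IsPGroup 5 (zpowers d) := IsPGroup.of_card (n := 1) (by rw [Nat.card_zpowers, hd5, pow_one])
  have hiter : ∀ n : ℕ, ∀ x ∈ X, d ^ n * x * (d ^ n)⁻¹ ∈ X := by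
    intro n
    induction n with
    | zero => intro x hx; simpa using hx
    | succ n ih =>
      intro x hx
      rw [show d ^ (n + 1) * x * (d ^ (n + 1))⁻¹ = d * (d ^ n * x * (d ^ n)⁻¹) * d⁻¹ by
        rw [pow_succ']; group]
      exact hinv _ (ih x hx)
  have hmod := card_modEq_five hP (X := X) fun p hp x hx => by
    obtain ⟨n, rfl⟩ := mem_powers_iff_mem_zpowers.2 hp
    exact hiter n x hx
  have hfix : X ⊓ centralizer (zpowers d : Set (Cbar z)) = omegaBar S z := by
    have hC := hD.inf_centralizer_eq main hP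
      (fun p hp => (zpowers_le.2 (mem_stabilizer_iff.2 hd) :
        zpowers d ≤ stabilizer (Cbar z) h.pt) hp)
      (fun e => by rw [zpowers_eq_bot.1 e, orderOf_one] at hd5; omega)
    exact le_antisymm ((inf_le_inf_right _ hX).trans hC.le)
      (le_inf hWX (hC.ge.trans inf_le_right))
  rw [hfix, h.card_omegaBar] at hmod
  obtain ⟨j, hj, hje⟩ := (Nat.dvd_prime_pow Nat.prime_two).1
    (show Nat.card X ∣ 2 ^ 6 by
      have := card_dvd_of_le hX
      rwa [hD.card_img] at this)
  have h4 : 4 < Nat.card X := by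
    rw [← h.card_omegaBar]
    exact lt_of_le_of_ne (Nat.le_of_dvd Nat.card_pos (card_dvd_of_le hWX)) fun e =>
      hu' (eq_of_le_of_card_ge hWX e.ge ▸ hu)
  refine eq_of_le_of_card_ge hX ?_
  rw [hje] at hmod h4
  rw [hD.card_img, hje]
  interval_cases j <;> first
    | omega
    | exact absurd hmod (by decide)

end UnitaryData

end CfsgLib.SylInter
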