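import Cfsg.Agent.Lib.SylInter.Card
import Cfsg.Agent.Lib.SylInter.CaseOne
import Cfsg.Agent.Lib.BenderQ.Bridge
import Cfsg.Agent.S0448

/-!
If the centraliser of `z` has five Sylow 2-subgroups, it induces the alternating group of degree
five on them, `S` is elementary of order eight, and the centraliser is `2 × A₅`: the group has the
order of the first Janko group.
-/

set_option autoImplicit false
set_option linter.style.haveILetI false
set_option linter.unusedSectionVars false

namespace CfsgLib.SylInter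

open Subgroup MulAction CfsgLib.Involutions CfsgLib.StrongCrit

universe u

variable {G : Type u} [Group G] [Finite G] {S : Sylow 2 G} {z : G}

open scoped IsMulCommutative in
/-- A central element of order two in an abelian Sylow 2-subgroup survives in the transfer. -/
theorem exists_hom_ne_one {C : Type*} [Group C] [Finite C] (P : Sylow 2 C)
    (hP : ∀ x ∈ (P : Subgroup C), ∀ y ∈ (P : Subgroup C), Commute x y) {c : C} (hc : c ∈ center C)
    (hc2 : orderOf c = 2) :
    ∃ χ : C →* (P : Subgroup C), χ c ≠ 1 := by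
  haveI : IsMulCommutative (P : Subgroup C) :=
    ⟨⟨fun a b => Subtype.ext (hP a a.2 b b.2).eq⟩⟩
  haveI : (P : Subgroup C).FiniteIndex := inferInstance
  refine ⟨MonoidHom.transfer (MonoidHom.id (P : Subgroup C)), ?_⟩
  intro e
  have key := MonoidHom.transfer_eq_pow (MonoidHom.id (P : Subgroup C)) c fun k g _ => by
    rw [mem_center_iff.1 (pow_mem hc k) g⁻¹, inv_mul_cancel_right]
  have e1 : c ^ (P : Subgroup C).index = 1 := congrArg Subtype.val (key.symm.trans e)
  have h1 := orderOf_dvd_of_pow_eq_one e1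
  haveI : Fact (Nat.Prime 2) := ⟨Nat.prime_two⟩
  rw [hc2] at h1
  exact P.not_dvd_index h1

namespace Data

variable (h : Data S z)
include h

/-- The permutation group on five Sylow subgroups has order sixty, the stabiliser of `S` being
`omegaBar S z` extended by an element of order three. -/
theorem five_facts (h5 : Nat.card (Sylow 2 (Cz z)) = 5) :
    Nat.card (Cbar z) = 60 ∧ (∀ g : Cbar z, g • h.pt = h.pt →
      (∀ v ∈ omegaBar S z, Commute g v) → g ∈ omegaBar S z) ∧
    Nat.card (stabilizer (Cbar z) h.pt) = 12 := by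
  classical
  haveI : Fact (Nat.Prime 2) := ⟨Nat.prime_two⟩
  have hVH : omegaBar S z ≤ stabilizer (Cbar z) h.pt := fun x hx => by
    obtain ⟨e, he, rfl⟩ := h.mem_omegaBar.1 hx
    exact h.proj_pt he
  -- the four group is regular on the other four points
  have hfree : ∀ x ∈ omegaBar S z, x ≠ 1 → ∀ T, x • T = T → T = h.pt := by
    intro x hx h1 T hT
    obtain ⟨e, he, rfl⟩ := h.mem_omegaBar.1 hx
    have he1 : (e : G) ≠ 1 := fun e1 => h1 (by rw [show e = 1 from Subtype.ext e1, map_one])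
    have he2 : (e : G) ≠ z := fun e1 => h1 (by
      rw [show e = ⟨z, mem_centralizer_singleton_iff.2 rfl⟩ from Subtype.ext e1, h.proj_z])
    simpa using (h.memb_fix (c := 1) he he1 he2 T).1 (by simpa using hT)
  obtain ⟨T₀, hT₀⟩ := h.exists_ne_pt
  let Y := {T : Sylow 2 (Cz z) // T ≠ h.pt}
  let f : omegaBar S z → Y := fun v => ⟨(v : Cbar z) • T₀, fun e => hT₀ (by
    have := congrArg ((v : Cbar z)⁻¹ • ·) e
    simp only [inv_smul_smul] at this
    rw [this, inv_smul_eq_iff]
    exact (hVH v.2).symm)⟩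
  have hY : Nat.card Y = 4 := by
    letI := Fintype.ofFinite (Sylow 2 (Cz z))
    rw [Nat.card_eq_fintype_card, Fintype.card_subtype_compl, Fintype.card_subtype_eq,
      ← Nat.card_eq_fintype_card, h5]
  have hf : Function.Bijective f := by
    refine (Nat.bijective_iff_injective_and_card f).2 ⟨fun a b e => ?_, by rw [h.card_omegaBar, hY]⟩
    have e1 : (a : Cbar z) • T₀ = (b : Cbar z) • T₀ := congrArg Subtype.val e
    by_contra hne
    refine hT₀ (hfree _ (mul_mem (inv_mem b.2) a.2) (fun e2 => hne (Subtype.ext ?_)) T₀ ?_)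
    · exact (inv_mul_eq_one.1 e2).symm
    · rw [mul_smul, e1, inv_smul_smul]
  have hreg : ∀ g : Cbar z, g • h.pt = h.pt →
      (∀ v ∈ omegaBar S z, Commute g v) → g ∈ omegaBar S z := by
    intro g hg hcomm
    have hgT : g • T₀ ≠ h.pt := fun e => hT₀ (by
      have := congrArg (g⁻¹ • ·) e
      simp only [inv_smul_smul] at this
      rw [this, inv_smul_eq_iff, hg])
    obtain ⟨v, hv⟩ := hf.2 ⟨g • T₀, hgT⟩
    have hv' : (v : Cbar z) • T₀ = g • T₀ := congrArg Subtype.val hv
    have key : (v : Cbar z)⁻¹ * g = 1 := by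
      refine cbar_faithful _ fun T => ?_
      by_cases hT : T = h.pt
      · rw [hT, mul_smul, hg, inv_smul_eq_iff]
        exact (hVH v.2).symm
      obtain ⟨w, hw⟩ := hf.2 ⟨T, hT⟩
      have hw' : (w : Cbar z) • T₀ = T := congrArg Subtype.val hw
      have hc : Commute ((v : Cbar z)⁻¹ * g) w := by
        refine Commute.mul_left ?_ (hcomm w w.2)
        obtain ⟨e, he, hev⟩ := h.mem_omegaBar.1 v.2
        obtain ⟨e', he', hew⟩ := h.mem_omegaBar.1 w.2
        rw [← hev, ← hew]
        exact ((show Commute e e' from Subtype.ext (commute_of_mem_omegaZ he he').eq).map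
          (proj z)).inv_left
      rw [← hw', smul_smul, hc.eq, mul_smul, mul_smul, ← hv', inv_smul_smul]
    rw [← inv_mul_eq_one.1 key]
    exact v.2
  -- the stabiliser has order twelve
  obtain ⟨a, ha, ha1, haz, -⟩ := h.exists_avoid 1
  set a₀ : Cz z := ⟨a, h.omegaZ_le_cz ha⟩
  have haV : proj z a₀ ∈ omegaBar S z := h.mem_omegaBar.2 ⟨a₀, ha, rfl⟩
  have hane : proj z a₀ ≠ 1 := h.proj_ne_one (e := a₀) ha ha1 haz
  have hconj : ∀ {g x : Cbar z}, g • h.pt = h.pt → x ∈ omegaBar S z → g * x * g⁻¹ ∈ omegaBar S z := by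
    intro g x hg hx
    obtain ⟨c, rfl⟩ := proj_surjective g
    obtain ⟨e, he, rfl⟩ := h.mem_omegaBar.1 hx
    refine h.mem_omegaBar.2 ⟨c * e * c⁻¹,
      conj_mem_omegaZ (h.smul_pt_iff.1 (by rwa [proj_smul] at hg)) he, ?_⟩
    simp [map_mul]
  set H := stabilizer (Cbar z) h.pt
  let a' : H := ⟨proj z a₀, hVH haV⟩
  have horb : Nat.card (ConjClasses.mk a').carrier = 3 := by
    have hset : (Subtype.val '' (ConjClasses.mk a').carrier) =
        ((omegaBar S z : Set (Cbar z)) \ {1}) := by
      ext x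
      constructor
      · rintro ⟨y, hy, rfl⟩
        obtain ⟨g, rfl⟩ := isConj_iff.1 (ConjClasses.mk_eq_mk_iff_isConj.1 (ConjClasses.mem_carrier_iff_mk_eq.1 hy).symm)
        exact ⟨hconj g.2 haV, fun e => hane (conj_eq_one_iff.1 e)⟩
      · rintro ⟨hxV, hx1⟩
        obtain ⟨e, he, rfl⟩ := h.mem_omegaBar.1 hxV
        have he1 : (e : G) ≠ 1 := fun e1 => hx1 (by
          show proj z e = 1
          rw [show e = 1 from Subtype.ext e1, map_one])
        have he2 : (e : G) ≠ z := fun e1 => hx1 (by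
          show proj z e = 1
          rw [show e = ⟨z, mem_centralizer_singleton_iff.2 rfl⟩ from Subtype.ext e1, h.proj_z])
        obtain ⟨n, hn, hnz, hne⟩ := h.transitive ha ha1 haz he he1 he2
        set n₀ : Cz z := ⟨n, mem_centralizer_singleton_iff.2 hnz.eq⟩
        refine ⟨⟨proj z n₀, h.smul_pt_iff.2 hn⟩ * a' * ⟨proj z n₀, h.smul_pt_iff.2 hn⟩⁻¹,
          ConjClasses.mem_carrier_iff_mk_eq.2 (ConjClasses.mk_eq_mk_iff_isConj.2
            (isConj_iff.2 ⟨⟨proj z n₀, h.smul_pt_iff.2 hn⟩, rfl⟩ : IsConj a' _).symm), ?_⟩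
        show proj z n₀ * proj z a₀ * (proj z n₀)⁻¹ = proj z e
        rw [← map_inv, ← map_mul, ← map_mul]
        rcases hne with e1 | e1
        · exact congrArg (proj z) (Subtype.ext e1)
        · rw [show n₀ * a₀ * n₀⁻¹ = ⟨z, mem_centralizer_singleton_iff.2 rfl⟩ * e from Subtype.ext e1,
            map_mul, h.proj_z, one_mul]
    rw [Nat.card_coe_set_eq, ← Set.ncard_image_of_injective _ Subtype.val_injective, hset,
      Set.ncard_sdiff_singleton_of_mem (one_mem _), ← Nat.card_coe_set_eq]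
    exact congrArg (· - 1) h.card_omegaBar
  have hcent : centralizer ({a'} : Set H) = (omegaBar S z).subgroupOf H := by
    ext g
    rw [mem_centralizer_singleton_iff, mem_subgroupOf]
    constructor
    · intro hg
      have hga : (g : Cbar z) * proj z a₀ * (g : Cbar z)⁻¹ = proj z a₀ :=
        mul_inv_eq_iff_eq_mul.2 (congrArg Subtype.val hg)
      refine hreg g g.2 fun v hv => ?_
      by_contra hne
      have hv1 : v ≠ 1 := fun e => hne (e ▸ Commute.one_right _)
      have hva : v ≠ proj z a₀ := fun e => hne (by rw [e]; exact congrArg Subtype.val hg)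
      set w := (g : Cbar z) * v * (g : Cbar z)⁻¹ with hw
      have hwv : w ≠ v := fun e => hne (mul_inv_eq_iff_eq_mul.1 e)
      have hwa : w ≠ proj z a₀ := fun e => hva (by
        rw [hw, ← hga] at e
        exact mul_left_cancel (mul_right_cancel e))
      have hw1 : w ≠ 1 := fun e => hv1 (conj_eq_one_iff.1 e)
      -- the four group has exactly these four elements
      have hfour : ∀ x ∈ omegaBar S z, x = 1 ∨ x = proj z a₀ ∨ x = v ∨ x = w := by
        intro x hx
        by_contra hcon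
        push Not at hcon
        obtain ⟨n1, n2, n3, n4⟩ := hcon
        letI := Fintype.ofFinite (omegaBar S z)
        let F : Finset (omegaBar S z) := {1, ⟨_, haV⟩, ⟨v, hv⟩, ⟨w, hconj g.2 hv⟩, ⟨x, hx⟩}
        have hF : F.card = 5 := by
          simp [F, Subtype.ext_iff, hane.symm, hv1.symm, hva.symm, hw1.symm, hwv.symm, hwa.symm,
            n1.symm, n2.symm, n3.symm, n4.symm]
        have := F.card_le_univ
        rw [hF, ← Nat.card_eq_fintype_card, h.card_omegaBar] at this
        omega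
      obtain ⟨e, he, hev⟩ := h.mem_omegaBar.1 hv
      have hcav : Commute (proj z a₀) v := by
        rw [← hev]
        exact (show Commute a₀ e from Subtype.ext (commute_of_mem_omegaZ ha he).eq).map (proj z)
      have hvv : v * v = 1 := by
        rw [← hev, ← map_mul, show e * e = 1 from Subtype.ext he.2.1, map_one]
      have hav : proj z a₀ * v = w := by
        rcases hfour _ (mul_mem haV hv) with e' | e' | e' | e'
        · refine absurd ?_ hva
          rw [mul_eq_one_iff_eq_inv, inv_eq_of_mul_eq_one_right hvv] at e'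
          exact e'.symm
        · exact absurd (mul_eq_left.1 e') hv1
        · exact absurd (mul_eq_right.1 e') hane
        · exact e'
      -- so `g` interchanges `v` and `w`
      have hgw : (g : Cbar z) * w * (g : Cbar z)⁻¹ = v := by
        rw [← hav, show (g : Cbar z) * (proj z a₀ * v) * (g : Cbar z)⁻¹ =
          ((g : Cbar z) * proj z a₀ * (g : Cbar z)⁻¹) * w by rw [hw]; group, hga, ← hav, ← mul_assoc,
          show proj z a₀ * proj z a₀ = 1 by
            rw [← map_mul, show a₀ * a₀ = 1 from Subtype.ext ha.2.1, map_one], one_mul]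
      -- an involution-like permutation of two points of the four group
      obtain ⟨c, hcg⟩ := proj_surjective (g : Cbar z)
      obtain ⟨e', he', hew⟩ := h.mem_omegaBar.1 (hconj g.2 hv)
      have hc : (c : G) ∈ normalizer ((S : Subgroup G) : Set G) := by
        have h7 : (g : Cbar z) • h.pt = h.pt := g.2
        rw [← hcg, proj_smul] at h7
        exact h.smul_pt_iff.1 h7
      have h2 : proj z e = proj z (c ^ 2 * e * (c ^ 2)⁻¹) := by
        simp only [map_mul, map_inv, pow_two, hcg, hev]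
        conv_lhs => rw [← hgw, hw]
        group
      have h3 : (c : G) ^ 2 * e * ((c : G) ^ 2)⁻¹ = e := by
        rcases h.eq_or_of_proj_eq (e := e) he (e' := c ^ 2 * e * (c ^ 2)⁻¹)
            (conj_mem_omegaZ (by simpa using pow_mem hc 2) he) h2 with e1 | e1
        · simpa using e1
        · exact absurd (by simpa using e1)
            (h.conj_ne_mul (pow_mem hc 2) ((commute_cz c).pow_left 2) he)
      have h4 := commute_of_sq hc he (mul_inv_eq_iff_eq_mul.1 h3)
      refine hne ?_
      rw [← hcg, ← hev]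
      exact (show Commute c e from Subtype.ext h4.eq).map (proj z)
    · intro hg
      obtain ⟨e, he, hev⟩ := h.mem_omegaBar.1 hg
      refine Subtype.ext ?_
      show (g : Cbar z) * proj z a₀ = proj z a₀ * (g : Cbar z)
      rw [← hev]
      exact ((show Commute e a₀ from Subtype.ext (commute_of_mem_omegaZ he ha).eq).map (proj z)).eq
  have hH : Nat.card H = 12 := by
    have hidx : (centralizer ({a'} : Set H)).index = 3 := by
      rw [← horb, Nat.card_coe_set_eq, ← ConjAct.orbit_eq_carrier_conjClasses,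
        ← MulAction.index_stabilizer, ConjAct.stabilizer_eq_centralizer]
      rfl
    rw [← (centralizer ({a'} : Set H)).card_mul_index, hidx, hcent,
      Nat.card_congr (subgroupOfEquivOfLe hVH).toEquiv, h.card_omegaBar]
  refine ⟨?_, hreg, hH⟩
  haveI : IsPretransitive (Cbar z) (Sylow 2 (Cz z)) := ⟨fun T U => by
    obtain ⟨c, hc⟩ := MulAction.exists_smul_eq (Cz z) T U
    exact ⟨proj z c, by rw [proj_smul, hc]⟩⟩
  rw [← H.card_mul_index, hH, index_stabilizer_of_transitive, h5]

/-- The Sylow subgroup is elementary of order eight, with kernel part `⟨z⟩`. -/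
theorem sylow_eq_omegaZ (h5 : Nat.card (Sylow 2 (Cz z)) = 5) :
    (S : Subgroup G) = omegaZ S ∧
      ∀ x : Cz z, (x : G) ∈ S → proj z x = 1 → (x : G) = 1 ∨ (x : G) = z := by
  haveI : Fact (Nat.Prime 2) := ⟨Nat.prime_two⟩
  obtain ⟨-, hreg, hH⟩ := h.five_facts h5
  -- the elements of `S` modulo the kernel
  have hsplit : ∀ s : Cz z, (s : G) ∈ S → ∃ e k : Cz z, (e : G) ∈ omegaZ S ∧ (k : G) ∈ S ∧
      proj z k = 1 ∧ s = e * k := by
    intro s hs
    have hfix : proj z s • h.pt = h.pt := by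
      rw [proj_smul]; exact h.smul_pt_iff.2 (Subgroup.le_normalizer hs)
    have hc : proj z s ∈ omegaBar S z := hreg _ hfix fun v hv => by
      obtain ⟨e, he, rfl⟩ := h.mem_omegaBar.1 hv
      exact (show Commute s e from Subtype.ext (he.2.2 _ hs).eq).map (proj z)
    obtain ⟨e, he, hes⟩ := h.mem_omegaBar.1 hc
    exact ⟨e, e⁻¹ * s, he, mul_mem (inv_mem (omegaZ_le he)) hs,
      by rw [map_mul, map_inv, hes, inv_mul_cancel], by rw [mul_inv_cancel_left]⟩
  have hker2 : ∀ x : Cz z, (x : G) ∈ S → proj z x = 1 → orderOf (x : G) = 2 → (x : G) = z := by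
    intro x hx hp h2
    by_contra hne
    obtain ⟨T, hT⟩ := h.exists_ne_pt
    obtain ⟨c, rfl⟩ := h.exists_pt T
    refine hT ?_
    have hfix : x • c • h.pt = c • h.pt := by rw [← proj_smul, hp, one_smul]
    have hfix' : (c⁻¹ * x * c) • h.pt = h.pt := by rw [mul_smul, mul_smul, hfix, inv_smul_smul]
    have ho : orderOf ((c : G)⁻¹ * x * c) = 2 := by
      have := orderOf_conj_eq (c : G)⁻¹ (x : G)
      rw [inv_inv] at this
      rw [this, h2]
    have hmem : ((c : G)⁻¹ * x * c) ∈ (S : Subgroup G) :=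
      mem_sylow_of_normalizer S ⟨1, by rw [ho, pow_one]⟩ (by simpa using h.smul_pt_iff.1 hfix')
    have e1 := h.inter.eq_of_two (T := (c : G) • S) (central2_of_mem_omegaZ h.mem h.ne) h2
      (Ne.symm hne) (h.mem.2.2 _ hx).symm h.mem.1 hx
      (CentralSylow.mem_smul_iff.2 (by
        rw [(commute_cz c).inv_left.eq, inv_mul_cancel_right]; exact h.mem.1))
      (CentralSylow.mem_smul_iff.2 hmem)
    exact h.smul_pt_iff.2 (Sylow.smul_eq_iff_mem_normalizer.1 e1.symm)
  have hsmall : ∀ x : Cz z, (x : G) ∈ S → proj z x = 1 → (x : G) = 1 ∨ (x : G) = z := by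
    by_contra hcon
    push Not at hcon
    obtain ⟨x, hx, hpx, hx1, hxz⟩ := hcon
    obtain ⟨k, hk⟩ := S.isPGroup' ⟨(x : G), hx⟩
    have hxk : (x : G) ^ 2 ^ k = 1 := congrArg Subtype.val hk
    obtain ⟨j, -, hj⟩ := (Nat.dvd_prime_pow Nat.prime_two).1 (orderOf_dvd_of_pow_eq_one hxk)
    rcases j with _ | _ | j
    · exact hx1 (orderOf_eq_one_iff.1 (by rw [hj, pow_zero]))
    · exact hxz (hker2 x hx hpx (by rw [hj, pow_one]))
    set y := x ^ 2 ^ j with hy
    have hy4 : orderOf ((y : G) * y) = 2 := by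
      rw [← pow_two, hy, SubmonoidClass.coe_pow, ← pow_mul, orderOf_pow' _ (by positivity), hj,
        show 2 ^ j * 2 = 2 ^ (j + 1) by rw [pow_succ], Nat.gcd_eq_right (pow_dvd_pow 2 (by omega)),
        Nat.pow_div (by omega) two_pos, show j + 1 + 1 - (j + 1) = 1 by omega, pow_one]
    have hyy : (y : G) * y = z := hker2 (y * y) (mul_mem (pow_mem hx _) (pow_mem hx _))
      (by rw [map_mul, map_pow, hpx, one_pow, one_mul]) hy4
    -- squares of `S` lie in the kernel
    obtain ⟨u, hu, hu1, huz, -⟩ := h.exists_avoid 1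
    obtain ⟨n, hn, hnu⟩ := h.exists_conj_z hu hu1
    have hwS : n * (y : G) * n⁻¹ ∈ S := (mem_normalizer_iff.1 hn _).1 (pow_mem hx _)
    obtain ⟨e, q, he, hq, hqp, hw⟩ := hsplit ⟨_, h.sylow_le hwS⟩ hwS
    have hw' : n * (y : G) * n⁻¹ = (e : G) * q := congrArg Subtype.val hw
    have hu' : u = (q : G) * q :=
      calc u = n * z * n⁻¹ := hnu.symm
        _ = n * ((y : G) * y) * n⁻¹ := by rw [hyy]
        _ = (n * y * n⁻¹) * (n * y * n⁻¹) := by group
        _ = (e : G) * ((q : G) * e) * q := by rw [hw']; group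
        _ = (e : G) * e * (q * q) := by rw [(he.2.2 _ hq).eq]; group
        _ = (q : G) * q := by rw [he.2.1, one_mul]
    refine huz (hker2 (q * q) ?_ (by rw [map_mul, hqp, one_mul]) ?_ ▸ hu')
    · exact mul_mem hq hq
    · show orderOf ((q : G) * q) = 2
      rw [← hu']
      exact orderOf_of_mem_omegaZ hu hu1
  refine ⟨le_antisymm (fun s hs => ?_) omegaZ_le, hsmall⟩
  obtain ⟨e, k, he, hk, hkp, hek⟩ := hsplit ⟨s, h.sylow_le hs⟩ hs
  have hek' : s = (e : G) * k := congrArg Subtype.val hek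
  rcases hsmall k hk hkp with e1 | e1
  · rw [hek', e1, mul_one]; exact he
  · rw [hek', e1]; exact mul_mem he h.mem

/-- The subgroup generated by the normaliser of `S` and the centraliser of `z` is everything. -/
theorem sup_eq_top [IsSimpleGroup G] (hG : ¬ IsMulCommutative G)
    (h5 : Nat.card (Sylow 2 (Cz z)) = 5) :
    normalizer ((S : Subgroup G) : Set G) ⊔ Cz z = ⊤ := by
  haveI : Fact (Nat.Prime 2) := ⟨Nat.prime_two⟩
  set M := normalizer ((S : Subgroup G) : Set G) ⊔ Cz z with hM
  have hNM : normalizer ((S : Subgroup G) : Set G) ≤ M := le_sup_left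
  have hSM : (S : Subgroup G) ≤ M := Subgroup.le_normalizer.trans hNM
  have hSE := (h.sylow_eq_omegaZ h5).1
  by_contra hne
  have key : ∀ x ∈ M, orderOf x = 2 → ∃ m ∈ M, m * z * m⁻¹ = x := by
    intro x hxM hx
    have hP : IsPGroup 2 (zpowers x) := IsPGroup.of_card (n := 1) (by rw [Nat.card_zpowers, hx, pow_one])
    obtain ⟨R, hRM, hPR⟩ := CentralSylow.exists_sylow_le_of hSM hP (zpowers_le.2 hxM)
    obtain ⟨k, hk, hkR⟩ := CentralSylow.exists_smul_eq_in hSM hRM
    have hxR : x ∈ R := hPR (mem_zpowers x)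
    rw [← hkR] at hxR
    have he : k⁻¹ * x * k ∈ omegaZ S := hSE ▸ CentralSylow.mem_smul_iff.1 hxR
    have he1 : k⁻¹ * x * k ≠ 1 := fun e => ne_one_of_involution hx (by
      rw [show x = k * (k⁻¹ * x * k) * k⁻¹ by group, e, mul_one, mul_inv_cancel])
    obtain ⟨n, hn, hnz⟩ := h.exists_conj_z he he1
    refine ⟨k * n, mul_mem hk (hNM hn), ?_⟩
    rw [show k * n * z * (k * n)⁻¹ = k * (n * z * n⁻¹) * k⁻¹ by group, hnz]
    group
  have hSE2 : Cfsg.IsStronglyEmbedded M := by
    refine ⟨hne, ?_, fun g hg => ?_⟩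
    · rw [even_iff_two_dvd, ← orderOf_of_mem_omegaZ h.mem h.ne]
      exact Subgroup.orderOf_dvd_natCard _ (hSM h.mem.1)
    · rw [← Nat.not_even_iff_odd, even_iff_two_dvd]
      intro h2
      obtain ⟨⟨x, hxM, y, hyM, hyx⟩, hx⟩ := exists_prime_orderOf_dvd_card' 2 h2
      have hxx : orderOf x = 2 := (Subgroup.orderOf_coe _).trans hx
      have hy2 : orderOf y = 2 := by
        rw [← hxx, ← hyx]
        exact (MulEquiv.orderOf_eq (MulAut.conj g) y).symm
      obtain ⟨m, hm, hmx⟩ := key x hxM hxx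
      obtain ⟨m', hm', hmy⟩ := key y hyM hy2
      refine hg ?_
      have hxy : g * y * g⁻¹ = x := hyx
      have hC : m⁻¹ * g * m' ∈ Cz z := by
        refine mem_centralizer_singleton_iff.2 (mul_inv_eq_iff_eq_mul.1 ?_)
        calc m⁻¹ * g * m' * z * (m⁻¹ * g * m')⁻¹
            = m⁻¹ * (g * (m' * z * m'⁻¹) * g⁻¹) * m := by group
          _ = m⁻¹ * (m * z * m⁻¹) * m := by rw [hmy, hxy, hmx]
          _ = z := by group
      rw [show g = m * (m⁻¹ * g * m') * m'⁻¹ by group]
      exact mul_mem (mul_mem hm ((le_sup_right : Cz z ≤ M) hC)) (inv_mem hm')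
  obtain ⟨T, hT⟩ := BenderQ.exists_sylow_normalizer BenderQ.benderKernel (exists_noncomm hG) hSE2
  have hST : (S : Subgroup G) ≤ (T : Subgroup G) := fun s hs => by
    obtain ⟨k, hk⟩ := S.isPGroup' ⟨s, hs⟩
    exact mem_sylow_of_normalizer T ⟨k, orderOf_dvd_of_pow_eq_one (congrArg Subtype.val hk)⟩
      (hT ▸ hSM hs)
  obtain rfl : T = S := Sylow.ext (S.is_maximal' T.isPGroup' hST)
  exact h.notle ((le_sup_right : Cz z ≤ M).trans hT.le)

/-- The kernel of the action on the five Sylow subgroups is `⟨z⟩`. -/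
theorem kernel_eq [IsSimpleGroup G] (hG : ¬ IsMulCommutative G)
    (h5 : Nat.card (Sylow 2 (Cz z)) = 5) (x : Cz z) (hx : proj z x = 1) :
    (x : G) = 1 ∨ (x : G) = z := by
  haveI : Fact (Nat.Prime 2) := ⟨Nat.prime_two⟩
  obtain ⟨-, hreg, -⟩ := h.five_facts h5
  obtain ⟨-, hsmall⟩ := h.sylow_eq_omegaZ h5
  set K := (proj z).ker
  set z₀ : Cz z := ⟨z, mem_centralizer_singleton_iff.2 rfl⟩
  have hzK : z₀ ∈ K := h.proj_z
  haveI : (zpowers (⟨z₀, hzK⟩ : K)).Normal := ⟨fun w hw g => by
    obtain ⟨i, rfl⟩ := hw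
    have hc : Commute g (⟨z₀, hzK⟩ : K) :=
      Subtype.ext (Subtype.ext (commute_cz (g : Cz z)).eq)
    rw [(hc.zpow_right i).eq, mul_inv_cancel_right]
    exact ⟨i, rfl⟩⟩
  have hz2 : orderOf (⟨z₀, hzK⟩ : K) = 2 := by
    rw [Subgroup.orderOf_mk, Subgroup.orderOf_mk]
    exact orderOf_of_mem_omegaZ h.mem h.ne
  have hodd : ¬ 2 ∣ (zpowers (⟨z₀, hzK⟩ : K)).index := by
    intro h2
    rw [Subgroup.index_eq_card] at h2
    obtain ⟨q, hq⟩ := exists_prime_orderOf_dvd_card' 2 h2
    obtain ⟨k, rfl⟩ := QuotientGroup.mk_surjective q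
    obtain ⟨j, hj, a, ha⟩ := exists_two_lift (QuotientGroup.mk' (zpowers (⟨z₀, hzK⟩ : K)))
      (x := k) (k := 1) (by simpa using hq)
    set y : Cz z := ((k ^ j : K) : Cz z) with hy
    have hyK : proj z y = 1 := (k ^ j).2
    have hyfix : y • h.pt = h.pt := by rw [← proj_smul, hyK, one_smul]
    have hyS : (y : G) ∈ S := mem_sylow_of_normalizer S ⟨a, by
      rw [hy, Subgroup.orderOf_coe, Subgroup.orderOf_coe]; exact ha⟩ (h.smul_pt_iff.1 hyfix)
    have hmem : k ^ j ∈ zpowers (⟨z₀, hzK⟩ : K) := by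
      rcases hsmall y hyS hyK with e | e
      · rw [show k ^ j = 1 from Subtype.ext (Subtype.ext e)]
        exact one_mem _
      · rw [show k ^ j = ⟨z₀, hzK⟩ from Subtype.ext (Subtype.ext e)]
        exact mem_zpowers _
    have h1 : (QuotientGroup.mk k : K ⧸ zpowers (⟨z₀, hzK⟩ : K)) = 1 :=
      (hj.symm.trans ((QuotientGroup.eq_one_iff (k ^ j)).2 hmem) :)
    rw [h1, orderOf_one] at hq
    omega
  -- the elements of odd order centralising `S`
  obtain ⟨O, hO⟩ := Subgroup.exists_right_complement'_of_coprime (N := zpowers (⟨z₀, hzK⟩ : K))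
    (by rw [Nat.card_zpowers, hz2]; exact Nat.prime_two.coprime_iff_not_dvd.2 hodd)
  have hOidx : O.index = 2 := by rw [hO.index_eq_card, Nat.card_zpowers, hz2]
  have hOodd : Odd (Nat.card O) := by
    rw [← hO.symm.index_eq_card, ← Nat.not_even_iff_odd, even_iff_two_dvd]; exact hodd
  have hmemO : ∀ w : K, Odd (orderOf (w : G)) → w ∈ O := by
    intro w hw
    obtain ⟨r, hr⟩ := hw
    haveI := Subgroup.normal_of_index_eq_two hOidx
    have h1 : w ^ orderOf (w : G) = 1 := Subtype.ext (Subtype.ext (by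
      simp))
    have h2 : (w ^ 2) ∈ O := Subgroup.sq_mem_of_index_two hOidx w
    have h3 : (w ^ 2) ^ r * w ∈ O := by
      rw [← pow_mul, ← pow_succ, ← hr, h1]
      exact one_mem O
    exact (mul_mem_cancel_left (pow_mem h2 r)).1 h3
  set O' : Subgroup G := O.map ((Cz z).subtype.comp K.subtype) with hO'
  have hinj : Function.Injective ((Cz z).subtype.comp K.subtype) :=
    (Cz z).subtype_injective.comp K.subtype_injective
  have hO'odd : Odd (Nat.card O') := by
    rw [hO', card_map_of_injective hinj]; exact hOodd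
  have hO'le : O' ≤ Cz z := by
    rintro _ ⟨w, -, rfl⟩
    exact (w : Cz z).2
  have hoddw : ∀ w ∈ O', Odd (orderOf w) := fun w hw =>
    hO'odd.of_dvd_nat (Subgroup.orderOf_dvd_natCard _ hw)
  have hCn : ∀ g ∈ Cz z, ∀ w ∈ O', g * w * g⁻¹ ∈ O' := by
    intro g hg w hw
    have hwodd := hoddw w hw
    obtain ⟨v, -, rfl⟩ := hw
    have hmemK : (⟨g, hg⟩ : Cz z) * (v : Cz z) * (⟨g, hg⟩ : Cz z)⁻¹ ∈ K :=
      (proj z).normal_ker.conj_mem _ v.2 _
    refine ⟨⟨_, hmemK⟩, hmemO _ ?_, rfl⟩
    show Odd (orderOf (g * ((v : Cz z) : G) * g⁻¹))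
    rw [orderOf_conj_eq]
    exact hwodd
  have hCn' : Cz z ≤ normalizer (O' : Set G) := fun g hg => mem_normalizer_iff.2 fun w =>
    ⟨hCn g hg w, fun hw => by simpa [mul_assoc] using hCn g⁻¹ (inv_mem hg) _ hw⟩
  have hcomm : ∀ w ∈ O', ∀ s ∈ (S : Subgroup G), Commute w s := fun w hw s hs =>
    h.commute_of_odd hO'le hCn' hO'odd hw hs
  have hNn : ∀ n ∈ normalizer ((S : Subgroup G) : Set G), ∀ w ∈ O', n * w * n⁻¹ ∈ O' := by
    intro n hn w hw
    set y := n * w * n⁻¹ with hy
    have hyS : ∀ s ∈ (S : Subgroup G), Commute y s := by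
      intro s hs
      have h1 : n⁻¹ * s * n ∈ (S : Subgroup G) := by
        have := (mem_normalizer_iff.1 (inv_mem hn) s).1 hs
        rwa [inv_inv] at this
      have h2 := (hcomm w hw _ h1).map (MulAut.conj n).toMonoidHom
      simpa [MulAut.conj_apply, mul_assoc, hy] using h2
    set y₀ : Cz z := ⟨y, mem_centralizer_singleton_iff.2 (hyS z h.mem.1).eq⟩
    have hyN : y ∈ normalizer ((S : Subgroup G) : Set G) := mem_normalizer_iff.2 fun s => by
      constructor
      · intro hs; rw [(hyS s hs).eq, mul_inv_cancel_right]; exact hs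
      · intro hs
        have h3 : y * (y * s * y⁻¹) * y⁻¹ = y * s * y⁻¹ := by rw [(hyS _ hs).eq, mul_inv_cancel_right]
        have h4 : y * s * y⁻¹ = s := mul_left_cancel (mul_right_cancel h3)
        rwa [h4] at hs
    have hyo : Odd (orderOf y) := by rw [hy, orderOf_conj_eq]; exact hoddw w hw
    have hpV : proj z y₀ ∈ omegaBar S z := hreg _ (by rw [proj_smul]; exact h.smul_pt_iff.2 hyN)
      fun v hv => by
        obtain ⟨e, he, rfl⟩ := h.mem_omegaBar.1 hv
        exact (show Commute y₀ e from Subtype.ext (hyS _ (omegaZ_le he)).eq).map (proj z)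
    have hp1 : proj z y₀ = 1 := by
      obtain ⟨e, he, hev⟩ := h.mem_omegaBar.1 hpV
      have hdvd : orderOf (proj z y₀) ∣ 2 := orderOf_dvd_of_pow_eq_one (by
        rw [← hev, pow_two, ← map_mul, show e * e = 1 from Subtype.ext he.2.1, map_one])
      have hdvd' : orderOf (proj z y₀) ∣ orderOf y :=
        (orderOf_map_dvd (proj z) y₀).trans (dvd_of_eq (Subgroup.orderOf_coe y₀).symm)
      exact orderOf_eq_one_iff.1 (Nat.eq_one_of_dvd_coprimes (Nat.coprime_two_left.2 hyo) hdvd hdvd')
    exact ⟨⟨y₀, hp1⟩, hmemO _ hyo, rfl⟩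
  have hNn' : normalizer ((S : Subgroup G) : Set G) ≤ normalizer (O' : Set G) := fun g hg =>
    mem_normalizer_iff.2 fun w =>
      ⟨hNn g hg w, fun hw => by simpa [mul_assoc] using hNn g⁻¹ (inv_mem hg) _ hw⟩
  haveI hO'n : O'.Normal := normalizer_eq_top_iff.1
    (top_le_iff.1 ((h.sup_eq_top hG h5).symm.le.trans (sup_le hNn' hCn')))
  rcases hO'n.eq_bot_or_eq_top with e | e
  swap
  · exfalso
    have h2 := hoddw z (e ▸ mem_top z)
    rw [orderOf_of_mem_omegaZ h.mem h.ne] at h2
    exact absurd h2 (by decide)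
  have hO1 : O = ⊥ := (map_eq_bot_iff_of_injective O hinj).1 e
  have htop : zpowers (⟨z₀, hzK⟩ : K) = ⊤ := isComplement'_bot_right.1 (hO1 ▸ hO)
  obtain ⟨i, hi⟩ := mem_zpowers_iff.1 (htop ▸ mem_top (⟨x, hx⟩ : K))
  have hi' : z ^ i = (x : G) := by
    simpa using congrArg (fun w : K => ((w : Cz z) : G)) hi
  rw [← hi', ← zpow_mod_orderOf, orderOf_of_mem_omegaZ h.mem h.ne]
  rcases Int.emod_two_eq i with e2 | e2 <;> simp [e2]

/-- Five Sylow 2-subgroups in the centraliser give the first Janko group. -/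
theorem isJ1_of_five [IsSimpleGroup G] (hG : ¬ IsMulCommutative G) (_main : CriterionMain.{u})
    (h5 : Nat.card (Sylow 2 (Cz z)) = 5) : Cfsg.IsJ1 G := by
  classical
  haveI : Fact (Nat.Prime 2) := ⟨Nat.prime_two⟩
  letI := Fintype.ofFinite (Sylow 2 (Cz z))
  obtain ⟨h60, -, -⟩ := h.five_facts h5
  have hcardX : Fintype.card (Sylow 2 (Cz z)) = 5 := by rw [← Nat.card_eq_fintype_card]; exact h5
  haveI : Nontrivial (Sylow 2 (Cz z)) := Fintype.one_lt_card_iff_nontrivial.1 (by omega)
  have hidx : (Cbar z).index = 2 := by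
    have h1 := (Cbar z).card_mul_index
    rw [h60, Nat.card_perm, h5] at h1
    simp only [Nat.factorial] at h1
    omega
  let eA : Cbar z ≃* alternatingGroup (Fin 5) :=
    (MulEquiv.subgroupCongr (Equiv.Perm.eq_alternatingGroup_of_index_eq_two hidx)).trans
      (Fintype.equivFinOfCardEq hcardX).altCongrHom
  haveI : IsSimpleGroup (alternatingGroup (Fin 5)) := alternatingGroup.isSimpleGroup (by simp)
  haveI : IsSimpleGroup (Cbar z) := eA.isSimpleGroup
  set z₀ : Cz z := ⟨z, mem_centralizer_singleton_iff.2 rfl⟩ with hz₀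
  have hz2 : orderOf z₀ = 2 := by
    rw [hz₀, Subgroup.orderOf_mk]; exact orderOf_of_mem_omegaZ h.mem h.ne
  have hker : ∀ x : Cz z, proj z x = 1 → x = 1 ∨ x = z₀ := fun x hx =>
    (h.kernel_eq hG h5 x hx).imp (fun e => Subtype.ext e) (fun e => Subtype.ext e)
  have hSE := (h.sylow_eq_omegaZ h5).1
  have hP : ∀ x ∈ ((S.subtype h.sylow_le : Sylow 2 (Cz z)) : Subgroup (Cz z)),
      ∀ y ∈ ((S.subtype h.sylow_le : Sylow 2 (Cz z)) : Subgroup (Cz z)), Commute x y := by
    intro x hx y hy
    rw [Sylow.coe_subtype, mem_subgroupOf] at hx hy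
    exact Subtype.ext (commute_of_mem_omegaZ (hSE ▸ hx) (hSE ▸ hy)).eq
  have hzc : z₀ ∈ center (Cz z) := mem_center_iff.2 fun g => Subtype.ext (commute_cz g).eq
  obtain ⟨χ, hχz⟩ := exists_hom_ne_one (S.subtype h.sylow_le) hP hzc hz2
  let Ψ : Cz z →* χ.range × Cbar z := χ.rangeRestrict.prod (proj z)
  have hΨ : Function.Injective Ψ := by
    refine (injective_iff_map_eq_one Ψ).2 fun x hx => ?_
    rcases hker x (congrArg Prod.snd hx) with e | e
    · exact e
    · exfalso
      refine hχz ?_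
      rw [← e]
      exact congrArg Subtype.val (congrArg Prod.fst hx)
  -- `ker χ` covers the simple quotient
  have hmap : χ.ker.map (proj z) = ⊤ := by
    refine ((χ.normal_ker.map _ proj_surjective).eq_bot_or_eq_top).resolve_left fun e => ?_
    have hχi : Function.Injective χ := by
      refine (injective_iff_map_eq_one χ).2 fun x hx => ?_
      have hp : proj z x = 1 := by
        rw [← mem_bot, ← e]; exact mem_map_of_mem _ (MonoidHom.mem_ker.2 hx)
      rcases hker x hp with e1 | e1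
      · exact e1
      · exact absurd (e1 ▸ hx) hχz
    have hcard : 60 ≤ Nat.card (Cz z) := h60 ▸ Nat.card_le_card_of_surjective _ proj_surjective
    have h8 : Nat.card (Cz z) ≤ 8 := by
      refine (Nat.card_le_card_of_injective χ hχi).trans ?_
      rw [Sylow.coe_subtype, Nat.card_congr (subgroupOfEquivOfLe h.sylow_le).toEquiv, hSE,
        h.card_omegaZ]
    omega
  have hcardC : Nat.card (Cz z) = 120 := by
    have hk : (proj z).ker = zpowers z₀ := le_antisymm (fun x hx => by
      rcases hker x hx with e | e <;> rw [e]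
      · exact one_mem _
      · exact mem_zpowers _) (zpowers_le.2 h.proj_z)
    rw [← (proj z).ker.card_mul_index, hk, Nat.card_zpowers, hz2, ← hk, Subgroup.index_ker,
      MonoidHom.range_eq_top.2 proj_surjective, Subgroup.card_top, h60]
  have hkerle : 60 ≤ Nat.card χ.ker := by
    rw [← h60, ← Subgroup.card_top (G := Cbar z), ← hmap]
    exact Nat.le_of_dvd Nat.card_pos (card_map_dvd _ _)
  have hrange : Nat.card χ.range = 2 := by
    have h1 := χ.ker.card_mul_index
    rw [Subgroup.index_ker, hcardC] at h1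
    have h2 : 1 < Nat.card χ.range := by
      haveI : Nontrivial χ.range :=
        ⟨⟨⟨χ z₀, z₀, rfl⟩, 1, fun e => hχz (congrArg Subtype.val e)⟩⟩
      exact Finite.one_lt_card
    have h3 := Nat.mul_le_mul_right (Nat.card χ.range) hkerle
    omega
  have hΨb : Function.Bijective Ψ := (Nat.bijective_iff_injective_and_card Ψ).2
    ⟨hΨ, by rw [Nat.card_prod, hrange, h60, hcardC]⟩
  have eC : χ.range ≃* Multiplicative (ZMod 2) := mulEquivOfPrimeCardEq hrange
    (by rw [Nat.card_congr Multiplicative.toAdd, Nat.card_zmod])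
  exact Cfsg.Agent.S0448.result z ⟨orderOf_of_mem_omegaZ h.mem h.ne, S, h.mem.1,
    fun x hx => (h.mem.2.2 x hx).eq⟩ ((MulEquiv.ofBijective Ψ hΨb).trans (eC.prodCongr eA))

end Data

end CfsgLib.SylInter
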