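import Cfsg.Agent.Lib.SylInter.Types
import Cfsg.Agent.Lib.SylInter.Five

/-!
The kernel of the action of the centraliser inside `S`, and the preimage there of the image of
`omegaZ S`: elements of odd order prime to three centralising `omegaZ S` centralise it.
-/

set_option autoImplicit false
set_option linter.style.haveILetI false
set_option linter.unusedSectionVars false

namespace CfsgLib.SylInter

open Subgroup MulAction CfsgLib.Involutions

universe u

variable {G : Type u} [Group G] [Finite G] {S : Sylow 2 G} {z : G}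

/-- An element with image of `p`-power order has a power of `p`-power order with the same image. -/
theorem exists_five_lift {H : Type*} [Group H] (f : G →* H) {x : G} (hk : orderOf (f x) = 5) :
    ∃ j : ℕ, f (x ^ j) = f x ∧ ∃ a : ℕ, (x ^ j) ^ 5 ^ a = 1 := by
  obtain ⟨a, m, hm, ham⟩ := Nat.exists_eq_pow_mul_and_not_dvd (orderOf_pos x).ne' 5 (by norm_num)
  have hcop : m.Coprime 5 :=
    ((Nat.Prime.coprime_iff_not_dvd (by norm_num : Nat.Prime 5)).2 hm).symm
  obtain ⟨t, -, ht⟩ := Nat.exists_mul_mod_eq_one_of_coprime hcop (by norm_num)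
  refine ⟨m * t, by rw [map_pow, ← pow_mod_orderOf, hk, ht, pow_one], a, ?_⟩
  rw [← pow_mul, show m * t * 5 ^ a = 5 ^ a * m * t by ring, ← ham, pow_mul, pow_orderOf_eq_one,
    one_pow]

/-- The kernel in `S`. -/
def kerSyl (S : Sylow 2 G) (z : G) : Subgroup G :=
  ((proj z).ker.map (Cz z).subtype) ⊓ (S : Subgroup G)

/-- The preimage in `S` of the image of `omegaZ S`. -/
def preSyl (S : Sylow 2 G) (z : G) : Subgroup G :=
  (((omegaBar S z).comap (proj z)).map (Cz z).subtype) ⊓ (S : Subgroup G)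

theorem mem_kerSyl {x : G} :
    x ∈ kerSyl S z ↔ x ∈ (S : Subgroup G) ∧ ∃ hx : x ∈ Cz z, proj z ⟨x, hx⟩ = 1 := by
  constructor
  · rintro ⟨⟨c, hc, rfl⟩, hS⟩
    exact ⟨hS, c.2, hc⟩
  · rintro ⟨hS, hx, h1⟩
    exact ⟨⟨⟨x, hx⟩, h1, rfl⟩, hS⟩

theorem mem_preSyl {x : G} :
    x ∈ preSyl S z ↔ x ∈ (S : Subgroup G) ∧ ∃ hx : x ∈ Cz z, proj z ⟨x, hx⟩ ∈ omegaBar S z := by
  constructor
  · rintro ⟨⟨c, hc, rfl⟩, hS⟩
    exact ⟨hS, c.2, hc⟩
  · rintro ⟨hS, hx, h1⟩
    exact ⟨⟨⟨x, hx⟩, h1, rfl⟩, hS⟩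

namespace Data

variable (h : Data S z)
include h

/-- The image of an element of `S` commutes with the image of `omegaZ S`. -/
theorem commute_sylow_omegaBar {s : Cz z} (hs : (s : G) ∈ (S : Subgroup G)) {x : Cbar z}
    (hx : x ∈ omegaBar S z) : Commute (proj z s) x := by
  obtain ⟨e, he, rfl⟩ := h.mem_omegaBar.1 hx
  exact (show Commute s e from Subtype.ext (he.2.2 _ hs).eq).map (proj z)

theorem proj_pt_sylow {s : Cz z} (hs : (s : G) ∈ (S : Subgroup G)) : proj z s • h.pt = h.pt := by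
  rw [proj_smul]
  exact h.smul_pt_iff.2 (Subgroup.le_normalizer hs)

theorem conj_kerSyl {c x : G} (hc : c ∈ Cz z) (hcN : c ∈ normalizer ((S : Subgroup G) : Set G))
    (hx : x ∈ kerSyl S z) : c * x * c⁻¹ ∈ kerSyl S z := by
  obtain ⟨hxS, hxC, hx1⟩ := mem_kerSyl.1 hx
  refine mem_kerSyl.2 ⟨(mem_normalizer_iff.1 hcN x).1 hxS,
    mul_mem (mul_mem hc hxC) (inv_mem hc), ?_⟩
  show proj z ((⟨c, hc⟩ : Cz z) * ⟨x, hxC⟩ * (⟨c, hc⟩ : Cz z)⁻¹) = 1
  rw [map_mul, map_mul, hx1, mul_one, map_inv, mul_inv_cancel]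

theorem z_mem_kerSyl : z ∈ kerSyl S z :=
  mem_kerSyl.2 ⟨h.mem.1, mem_centralizer_singleton_iff.2 rfl, h.proj_z⟩

/-- The kernel in `S` has no involution but `z`. -/
theorem eq_z_of_kerSyl {x : G} (hx : x ∈ kerSyl S z) (hx2 : orderOf x = 2) : x = z := by
  obtain ⟨hxS, hxC, hx1⟩ := mem_kerSyl.1 hx
  by_contra hne
  obtain ⟨T, hT⟩ := h.exists_ne_pt
  obtain ⟨c, rfl⟩ := h.exists_pt T
  have hfix : (⟨x, hxC⟩ : Cz z) • c • h.pt = c • h.pt := by rw [← proj_smul, hx1, one_smul]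
  have hN : ((c : G)⁻¹ * x * c) ∈ normalizer ((S : Subgroup G) : Set G) := by
    have h1 : (c⁻¹ * ⟨x, hxC⟩ * c) • h.pt = h.pt := by
      rw [mul_smul, mul_smul, hfix, inv_smul_smul]
    simpa using h.smul_pt_iff.1 h1
  have ho : orderOf ((c : G)⁻¹ * x * c) = 2 := by
    have := orderOf_conj_eq (c : G)⁻¹ x
    rw [inv_inv] at this
    exact this.trans hx2
  have hmem := mem_sylow_of_normalizer S ⟨1, by rw [ho, pow_one]⟩ hN
  have e1 := h.inter.eq_of_two (T := (c : G) • S) (central2_of_mem_omegaZ h.mem h.ne) hx2 (Ne.symm hne)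
    (mem_centralizer_singleton_iff.1 hxC : Commute x z).symm h.mem.1 hxS
    (CentralSylow.mem_smul_iff.2 (by
      rw [(commute_cz c).inv_left.eq, inv_mul_cancel_right]; exact h.mem.1))
    (CentralSylow.mem_smul_iff.2 hmem)
  exact hT (h.smul_pt_iff.2 (Sylow.smul_eq_iff_mem_normalizer.1 e1.symm))

/-- An element of the preimage is a product with an element of the kernel. -/
theorem exists_mul_of_preSyl {x : G} (hx : x ∈ preSyl S z) :
    ∃ e ∈ omegaZ S, e * x ∈ kerSyl S z := by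
  obtain ⟨hxS, hxC, hx1⟩ := mem_preSyl.1 hx
  obtain ⟨e, he, hex⟩ := h.mem_omegaBar.1 hx1
  refine ⟨e, he, mem_kerSyl.2 ⟨mul_mem he.1 hxS, mul_mem e.2 hxC, ?_⟩⟩
  show proj z (e * ⟨x, hxC⟩) = 1
  rw [map_mul, ← hex, ← map_mul, show e * e = 1 from Subtype.ext he.2.1, map_one]

/-- An involution of the preimage lies in `omegaZ S`. -/
theorem mem_omegaZ_of_preSyl {x : G} (hx : x ∈ preSyl S z) (hxx : x * x = 1) : x ∈ omegaZ S := by
  obtain ⟨e, he, hk⟩ := h.exists_mul_of_preSyl hx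
  have hkk : (e * x) * (e * x) = 1 := by
    calc e * x * (e * x) = e * (x * e) * x := by group
      _ = e * e * (x * x) := by rw [(he.2.2 x (mem_preSyl.1 hx).1).eq]; group
      _ = 1 := by rw [he.2.1, hxx, one_mul]
  have hex : e * x ∈ omegaZ S := by
    rcases eq_or_ne (e * x) 1 with e1 | e1
    · rw [e1]; exact one_mem _
    · rw [h.eq_z_of_kerSyl hk (orderOf_eq_two_iff_mul.2 ⟨e1, hkk⟩)]; exact h.mem
  have := mul_mem (inv_mem he) hex
  rwa [inv_mul_cancel_left] at this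

/-- A 5-element normalising `S` and centralising `omegaZ S` centralises the preimage. -/
theorem commute_preSyl {p : G} {a : ℕ} (hp : p ^ 5 ^ a = 1)
    (hpN : p ∈ normalizer ((S : Subgroup G) : Set G)) (hpE : ∀ e ∈ omegaZ S, Commute p e)
    {x : G} (hx : x ∈ preSyl S z) : Commute p x := by
  obtain ⟨e, he, hk⟩ := h.exists_mul_of_preSyl hx
  have hpC : p ∈ Cz z := mem_centralizer_singleton_iff.2 (hpE z h.mem).eq
  have h1 := commute_of_unique_involution (S.isPGroup'.to_le inf_le_right) hp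
    (fun y hy => h.conj_kerSyl hpC hpN hy) h.z_mem_kerSyl (orderOf_of_mem_omegaZ h.mem h.ne)
    (fun y hy hy2 => h.eq_z_of_kerSyl hy hy2) (hpE z h.mem) (e * x) hk
  have h2 := (hpE e he).inv_right.mul_right h1
  rwa [inv_mul_cancel_left] at h2

/-- An element of `S` fixing everything is centralised modulo nothing: a 5-element with trivial image
centralises `S`. -/
theorem commute_of_proj_one {p : G} {a : ℕ} (hp : p ^ 5 ^ a = 1)
    (hpN : p ∈ normalizer ((S : Subgroup G) : Set G)) (hpE : ∀ e ∈ omegaZ S, Commute p e)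
    (hpC : p ∈ Cz z) (hp1 : proj z ⟨p, hpC⟩ = 1) {s : G} (hs : s ∈ (S : Subgroup G)) :
    Commute p s := by
  haveI : Fact (Nat.Prime 2) := ⟨Nat.prime_two⟩
  set k := p * s * p⁻¹ * s⁻¹ with hk
  have hkS : k ∈ (S : Subgroup G) := mul_mem ((mem_normalizer_iff.1 hpN s).1 hs) (inv_mem hs)
  have hsC : s ∈ Cz z := h.sylow_le hs
  have hkker : k ∈ kerSyl S z := mem_kerSyl.2 ⟨hkS, h.sylow_le hkS, by
    show proj z ((⟨p, hpC⟩ : Cz z) * ⟨s, hsC⟩ * (⟨p, hpC⟩ : Cz z)⁻¹ * (⟨s, hsC⟩ : Cz z)⁻¹) = 1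
    rw [map_mul, map_mul, map_mul, map_inv, map_inv, hp1, one_mul, inv_one, mul_one, mul_inv_cancel]⟩
  have hkpre : k ∈ preSyl S z := by
    obtain ⟨h1, h2, h3⟩ := mem_kerSyl.1 hkker
    exact mem_preSyl.2 ⟨h1, h2, by rw [h3]; exact one_mem _⟩
  have hpk : Commute p k := h.commute_preSyl hp hpN hpE hkpre
  have hiter : ∀ n : ℕ, p ^ n * s * (p ^ n)⁻¹ = k ^ n * s := by
    intro n
    induction n with
    | zero => simp
    | succ n ih =>
      calc p ^ (n + 1) * s * (p ^ (n + 1))⁻¹ = p * (p ^ n * s * (p ^ n)⁻¹) * p⁻¹ := by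
            rw [pow_succ']; group
        _ = (p * k ^ n * p⁻¹) * (p * s * p⁻¹) := by rw [ih]; group
        _ = k ^ (n + 1) * s := by
          rw [(hpk.pow_right n).eq, mul_inv_cancel_right, pow_succ, mul_assoc _ k s,
            show k * s = p * s * p⁻¹ by rw [hk, inv_mul_cancel_right]]
  have h5 := hiter (5 ^ a)
  rw [hp, one_mul, inv_one, mul_one] at h5
  have hk5 : k ^ 5 ^ a = 1 := mul_eq_right.1 h5.symm
  obtain ⟨j, hj⟩ := IsPGroup.iff_orderOf.1 S.2 ⟨k, hkS⟩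
  rw [Subgroup.orderOf_mk] at hj
  have hk1 : k = 1 := by
    have h1 := orderOf_dvd_of_pow_eq_one hk5
    rw [hj] at h1
    have h2 : (2 ^ j).Coprime (5 ^ a) := Nat.Coprime.pow _ _ (by norm_num)
    rw [← orderOf_eq_one_iff, hj]
    exact Nat.Coprime.eq_one_of_dvd h2 h1
  rw [hk, mul_inv_eq_one, mul_inv_eq_iff_eq_mul] at hk1
  exact hk1

end Data

end CfsgLib.SylInter
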