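import Cfsg.Agent.Lib.SylInter.Local
import Cfsg.Agent.S1237
import Cfsg.Agent.Lib.RankTwoTypes.Homocyclic
import Cfsg.Agent.Lib.GWCons.RankOneCover
import Cfsg.Agent.Lib.PSL2.Basic
import Cfsg.Agent.Lib.Small.OrderSixty

/-!
Exactly three involutions in `S`: a four group, or the Sylow 2-subgroup of `PSU(3,4)`.
-/

set_option autoImplicit false
set_option linter.style.haveILetI false

namespace CfsgLib.SylInter

open Subgroup CfsgLib.Involutions

universe u

/-- The fields of the last case, together with the small field. -/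
def PSLTwoTypes (G : Type u) [Group G] : Prop :=
  (∃ (n : ℕ) (F : Type) (_ : Field F) (_ : Fintype F), 2 ≤ n ∧ Fintype.card F = 2 ^ n ∧
      Nonempty (G ≃* Matrix.ProjectiveSpecialLinearGroup (Fin 2) F)) ∨
    (∃ (F : Type) (_ : Field F) (_ : Fintype F), (Fintype.card F % 8 = 3 ∨ Fintype.card F % 8 = 5) ∧
      5 < Fintype.card F ∧ Nonempty (G ≃* Matrix.ProjectiveSpecialLinearGroup (Fin 2) F))

variable {G : Type u} [Group G] [Finite G]

/-- The order of `PSL(2,q)` in a group without elements making 8 divide the order forces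
`q ≡ 3, 5 (mod 8)`. -/
theorem card_mod_eight {F : Type} [Field F] [Fintype F] (ho : Odd (Fintype.card F))
    (h8 : ¬ 8 ∣ Nat.card (Matrix.ProjectiveSpecialLinearGroup (Fin 2) F)) :
    Fintype.card F % 8 = 3 ∨ Fintype.card F % 8 = 5 := by
  have hc := CfsgLib.PSL2.card_psl (F := F)
  set q := Fintype.card F
  set N := Nat.card (Matrix.ProjectiveSpecialLinearGroup (Fin 2) F)
  obtain ⟨m, hm⟩ := ho
  have hg : Nat.gcd 2 (q - 1) = 2 := Nat.gcd_eq_left ⟨m, by omega⟩
  rw [hg, hm, show 2 * m + 1 - 1 = 2 * m by omega] at hc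
  by_contra hne
  push Not at hne
  refine h8 ?_
  have hkey : 4 ∣ m * (m + 1) := by
    rcases (show m % 4 = 0 ∨ m % 4 = 3 by omega) with h | h
    · exact Dvd.dvd.mul_right (Nat.dvd_of_mod_eq_zero h) _
    · exact Dvd.dvd.mul_left (Nat.dvd_of_mod_eq_zero (by omega)) _
  obtain ⟨j, hj⟩ := hkey
  refine ⟨j * (2 * m + 1), ?_⟩
  nlinarith

/-- A simple group with a Klein Sylow 2-subgroup. -/
theorem types_of_four [IsSimpleGroup G] (hGW : GWCons.RankOneCover.DihedralClassification.{u})
    (hG : ¬ IsMulCommutative G) (S : Sylow 2 G) (e : (S : Subgroup G) ≃* DihedralGroup 2) :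
    PSLTwoTypes G := by
  haveI : Fact (Nat.Prime 2) := ⟨Nat.prime_two⟩
  haveI : Group.IsPerfect G := Group.isPerfect_def.2
    ((Subgroup.Normal.eq_bot_or_eq_top (show (commutator G).Normal by infer_instance)).resolve_left
      fun h => hG ⟨⟨fun a b => by
        rw [← commutatorElement_eq_one_iff_mul_comm, ← Subgroup.mem_bot, ← h]
        exact Subgroup.commutator_mem_commutator (Subgroup.mem_top _) (Subgroup.mem_top _)⟩⟩)
  have hS4 : Nat.card (S : Subgroup G) = 4 := by rw [Nat.card_congr e.toEquiv, DihedralGroup.nat_card]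
  obtain ⟨i, hi⟩ := exists_prime_orderOf_dvd_card' (G := (S : Subgroup G)) 2 (by rw [hS4]; norm_num)
  rw [← Subgroup.orderOf_coe] at hi
  have hO : Cfsg.oddCore G = ⊥ := oddCore_eq_bot hi
  have e0 : G ⧸ Cfsg.oddCore G ≃* G :=
    (QuotientGroup.quotientMulEquivOfEq hO).trans QuotientGroup.quotientBot
  have h8 : ¬ 8 ∣ Nat.card G := fun h => S.not_dvd_index (by
    rw [← (S : Subgroup G).card_mul_index, hS4] at h
    omega)
  rcases hGW G S 2 le_rfl ⟨e⟩ with ⟨F, iF, iFt, hodd, h3F, ⟨f⟩⟩ | ⟨⟨f⟩⟩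
  · have f' := e0.symm.trans f
    have hm := @card_mod_eight F iF iFt hodd (by rwa [← Nat.card_congr f'.toEquiv])
    by_cases h5 : 5 < Fintype.card F
    · exact Or.inr ⟨F, iF, iFt, hm, h5, ⟨f'⟩⟩
    -- order sixty
    have hq : Fintype.card F = 5 := by obtain ⟨m, hm'⟩ := hodd; omega
    have h60 : Nat.card G = 60 := by
      have hc := CfsgLib.PSL2.card_psl (F := F)
      rw [hq] at hc
      norm_num at hc
      rw [Nat.card_congr f'.toEquiv]
      omega
    let K := GaloisField 2 2
    letI : Fintype K := Fintype.ofFinite _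
    have hK : Fintype.card K = 4 := by
      rw [← Nat.card_eq_fintype_card, GaloisField.card 2 2 (by norm_num)]; norm_num
    haveI : IsSimpleGroup (Matrix.ProjectiveSpecialLinearGroup (Fin 2) K) :=
      Matrix.ProjectiveSpecialLinearGroup.rank_two_simple (F := K) (by
        rw [Nat.card_eq_fintype_card, hK])
    have h60' : Nat.card (Matrix.ProjectiveSpecialLinearGroup (Fin 2) K) = 60 := by
      have hc := CfsgLib.PSL2.card_psl (F := K)
      rw [hK] at hc
      norm_num at hc
      omega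
    obtain ⟨g1⟩ := Small.nonempty_mulEquiv_alternating_five h60
    obtain ⟨g2⟩ := Small.nonempty_mulEquiv_alternating_five h60'
    exact Or.inl ⟨2, K, inferInstance, inferInstance, le_rfl, hK.trans (by norm_num), ⟨g1.trans g2.symm⟩⟩
  · exfalso
    refine h8 ?_
    rw [Nat.card_congr (e0.symm.trans f).toEquiv, nat_card_alternatingGroup, Nat.card_fin]
    decide

theorem sq_zmod_two : ∀ w : Multiplicative (ZMod (2 ^ 1) × ZMod (2 ^ 1)), w ^ 2 = 1 := by
  decide

variable {S : Sylow 2 G}

/-- The group when `S` has three involutions, permuted without fixed point. -/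
theorem types_of_three [IsSimpleGroup G] (hGW : GWCons.RankOneCover.DihedralClassification.{u})
    {F : Type} [Field F] [Fintype F] (hF : Fintype.card F = 16) (P : Sylow 2 (Cfsg.PSU 3 F 4))
    (hG : ¬ IsMulCommutative G) {z : G} (hz : z ∈ omegaZ S) (hz1 : z ≠ 1)
    (hmove : ∀ e ∈ omegaZ S, e ≠ 1 →
      ∃ n ∈ normalizer ((S : Subgroup G) : Set G), n * e * n⁻¹ ≠ e)
    {n : G} (hn : n ∈ normalizer ((S : Subgroup G) : Set G)) (hnz : n * z * n⁻¹ ≠ z)
    (hall : ∀ x ∈ (S : Subgroup G), orderOf x = 2 →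
      x = z ∨ x = n * z * n⁻¹ ∨ x = z * (n * z * n⁻¹)) :
    PSLTwoTypes G ∨ Nonempty ((S : Subgroup G) ≃* (P : Subgroup (Cfsg.PSU 3 F 4))) := by
  haveI : Fact (Nat.Prime 2) := ⟨Nat.prime_two⟩
  set y := n * z * n⁻¹ with hy
  have hyE : y ∈ omegaZ S := conj_mem_omegaZ hn hz
  have hy1 : y ≠ 1 := by simpa [hy] using hz1
  have hz2 := orderOf_of_mem_omegaZ hz hz1
  have hy2 := orderOf_of_mem_omegaZ hyE hy1
  have hzyE : z * y ∈ omegaZ S := mul_mem hz hyE
  have hzy1 : z * y ≠ 1 := fun e => hnz (by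
    rw [mul_eq_one_iff_eq_inv, inv_eq_self_of_involution hy2] at e; exact e.symm)
  have hnyz : n * y * n⁻¹ ≠ z := fun e => hnz (by
    have hc := commute_of_sq hn hz (mul_inv_eq_iff_eq_mul.1 (show n ^ 2 * z * (n ^ 2)⁻¹ = z by
      conv_rhs => rw [← e, hy]
      rw [pow_two]
      group))
    rw [hy, hc.eq, mul_inv_cancel_right])
  have hny : n * y * n⁻¹ = z * y := by
    rcases hall _ (conj_mem_omegaZ hn hyE).1 ((orderOf_conj_eq n y).trans hy2) with e | e | e
    · exact absurd e hnyz
    · exfalso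
      refine hnz ?_
      have e' : n * y * n⁻¹ = n * z * n⁻¹ := e
      exact (mul_left_cancel (mul_right_cancel e'))
    · exact e
  have hnzy : n * (z * y) * n⁻¹ = z := by
    rw [← conj_mul, ← hy, hny, (commute_of_mem_omegaZ hz hyE).eq, ← mul_assoc, hyE.2.1, one_mul]
  classical
  have hr2 : Cfsg.PRankLE 2 2 (S : Subgroup G) := by
    intro A hA hA2
    letI : Fintype A := Fintype.ofFinite _
    have hsub : ∀ a : A, ((a : (S : Subgroup G)) : G) ∈ ({1, z, y, z * y} : Finset G) := by
      intro a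
      simp only [Finset.mem_insert, Finset.mem_singleton]
      rcases eq_or_ne ((a : (S : Subgroup G)) : G) 1 with e | e
      · exact Or.inl e
      · refine Or.inr (hall _ (a : (S : Subgroup G)).2 (orderOf_eq_prime ?_ e))
        have := congrArg (fun x : (S : Subgroup G) => (x : G)) (hA2 a a.2)
        simpa using this
    calc Nat.card A ≤ ({1, z, y, z * y} : Finset G).card := by
          rw [← Nat.card_eq_finsetCard]
          exact Nat.card_le_card_of_injective (fun a : A => (⟨_, hsub a⟩ : ({1, z, y, z * y} : Finset G)))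
            fun a b e => Subtype.ext (Subtype.ext (congrArg Subtype.val e :))
      _ ≤ 2 ^ 2 := Finset.card_le_four
  have hr1 : ¬ Cfsg.PRankLE 2 1 (S : Subgroup G) := by
    intro h1
    have hle := omegaZ_le (S := S)
    have h2 := h1 ((omegaZ S).subgroupOf (S : Subgroup G))
      ⟨⟨fun a b => Subtype.ext (Subtype.ext (commute_of_mem_omegaZ
        (mem_subgroupOf.1 a.2) (mem_subgroupOf.1 b.2)).eq)⟩⟩
      (fun a ha => Subtype.ext (by rw [pow_two]; exact (mem_subgroupOf.1 ha).2.1))
    rw [Nat.card_congr (subgroupOfEquivOfLe hle).toEquiv] at h2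
    have h4 : Nat.card (closure ({z, y} : Set G)) ≤ Nat.card (omegaZ S) :=
      Nat.le_of_dvd Nat.card_pos (card_dvd_of_le ((closure_le _).2
        (Set.insert_subset hz (Set.singleton_subset_iff.2 hyE))))
    rw [card_closure_pair_four hz2 hy2 hnz.symm (commute_of_mem_omegaZ hz hyE)] at h4
    omega
  let φ : MulAut (S : Subgroup G) := Subgroup.normalizerMonoidHom (S : Subgroup G) ⟨n, hn⟩
  have hφ : ∀ a : (S : Subgroup G), ((φ a : (S : Subgroup G)) : G) = n * (a : G) * n⁻¹ := fun a => rfl
  have htrans : ∀ a b : (S : Subgroup G), orderOf a = 2 → orderOf b = 2 → ∃ k : ℕ, (φ ^ k) a = b := by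
    intro a b ha hb
    have key : ∀ k : ℕ, (((φ ^ k) a : (S : Subgroup G)) : G) = (b : G) →
        ∃ k : ℕ, (φ ^ k) a = b := fun k e => ⟨k, Subtype.ext e⟩
    have h2 : (((φ ^ 2) a : (S : Subgroup G)) : G) = n * (n * (a : G) * n⁻¹) * n⁻¹ := by
      rw [pow_two, MulAut.mul_apply, hφ, hφ]
    have ha' := hall a a.2 (by rwa [Subgroup.orderOf_coe])
    have hb' := hall b b.2 (by rwa [Subgroup.orderOf_coe])
    rcases ha' with ea | ea | ea <;> rcases hb' with eb | eb | eb
    · exact key 0 (by simp [ea, eb])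
    · exact key 1 (by rw [pow_one, hφ, ea, eb])
    · exact key 2 (by rw [h2, ea, ← hy, hny, eb])
    · exact key 2 (by rw [h2, ea, hny, hnzy, eb])
    · exact key 0 (by simp [ea, eb])
    · exact key 1 (by rw [pow_one, hφ, ea, hny, eb])
    · exact key 1 (by rw [pow_one, hφ, ea, hnzy, eb])
    · exact key 2 (by rw [h2, ea, hnzy, eb])
    · exact key 0 (by simp [ea, eb])
  rcases Cfsg.Agent.S1237.result S.2 hr2 hr1 φ htrans hF P with ⟨m, hm, ⟨e⟩⟩ | he
  · rcases Nat.eq_or_lt_of_le hm with h1 | h1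
    · subst h1
      refine Or.inl ?_
      haveI : Nontrivial (S : Subgroup G) :=
        ⟨⟨⟨z, hz.1⟩, 1, fun h => hz1 (congrArg Subtype.val h)⟩⟩
      haveI hK : IsKleinFour (S : Subgroup G) :=
        { card_four := by
            rw [Nat.card_congr e.toEquiv, Nat.card_congr Multiplicative.toAdd, Nat.card_prod, Nat.card_zmod]
            norm_num
          exponent_two := by
            refine (Monoid.exponent_eq_prime_iff (G := (S : Subgroup G)) Nat.prime_two).2 ?_
            intro a ha
            refine orderOf_eq_prime (e.injective ?_) ha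
            rw [map_pow, map_one]
            exact sq_zmod_two _ }
      obtain ⟨f⟩ : Nonempty ((S : Subgroup G) ≃* DihedralGroup 2) := IsKleinFour.nonempty_mulEquiv
      exact types_of_four hGW hG S f
    · exact (RankTwoTypes.not_homocyclic hG S h1 e).elim
  · exact Or.inr he

end CfsgLib.SylInter
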