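import Cfsg.Agent.Lib.SylInter.Image

/-!
The unitary case is impossible: the commutators of `S` with a Sylow 5-subgroup of the centraliser of
`omegaZ S` in `N(S)` would give a four group of `omegaZ S` avoiding `z`, invariant under a group
transitive on the involutions.
-/

set_option autoImplicit false
set_option linter.style.haveILetI false
set_option linter.unusedSectionVars false
set_option maxHeartbeats 1000000

namespace CfsgLib.SylInter

open Subgroup MulAction CfsgLib.Involutions CfsgLib.StrongCrit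

universe u

variable {G : Type u} [Group G] [Finite G] {S : Sylow 2 G} {z : G}

/-- `N(S) ⊓ C(Ω₁Z(S))`. -/
def centN (S : Sylow 2 G) : Subgroup G :=
  normalizer ((S : Subgroup G) : Set G) ⊓ centralizer (omegaZ S : Set G)

theorem commute_of_mem_centN {p e : G} (hp : p ∈ centN S) (he : e ∈ omegaZ S) : Commute p e :=
  (mem_centralizer_iff.1 hp.2 e he).symm

theorem conj_mem_centN {n p : G} (hn : n ∈ normalizer ((S : Subgroup G) : Set G)) (hp : p ∈ centN S) :
    n * p * n⁻¹ ∈ centN S := by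
  refine mem_inf.2 ⟨mul_mem (mul_mem hn (mem_inf.1 hp).1) (inv_mem hn), mem_centralizer_iff.2 fun e he => ?_⟩
  have he' : n⁻¹ * e * n ∈ omegaZ S := by
    have := conj_mem_omegaZ (inv_mem hn) he
    rwa [inv_inv] at this
  calc e * (n * p * n⁻¹) = n * ((n⁻¹ * e * n) * p) * n⁻¹ := by group
    _ = n * (p * (n⁻¹ * e * n)) * n⁻¹ := by rw [(commute_of_mem_centN hp he').eq]
    _ = n * p * n⁻¹ * e := by group

/-- The commutators of `S` with `P`. -/
def comSet (S : Sylow 2 G) (P : Subgroup G) : Set G :=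
  {c | ∃ s ∈ (S : Subgroup G), ∃ p ∈ P, c = s * p * s⁻¹ * p⁻¹}

theorem conj_mem_closure_comSet {P : Subgroup G} {m : G}
    (hm : m ∈ normalizer ((S : Subgroup G) : Set G)) (hP : ∀ p ∈ P, m * p * m⁻¹ ∈ P) :
    (closure (comSet S P)).map (MulAut.conj m).toMonoidHom ≤ closure (comSet S P) := by
  rw [MonoidHom.map_closure, closure_le]
  rintro _ ⟨_, ⟨s, hs, p, hp, rfl⟩, rfl⟩
  refine subset_closure ⟨_, (mem_normalizer_iff.1 hm s).1 hs, _, hP p hp, ?_⟩
  rw [MulEquiv.coe_toMonoidHom, MulAut.conj_apply]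
  group

namespace UnitaryData

variable {h : Data S z} {Q : Subgroup (Lbar S z)} (hD : UnitaryData h Q) (main : CriterionMain.{u})
include hD main

/-- A 5-element with the prescribed image, in `N(S)`, centralising `omegaZ S`. -/
theorem exists_tau : ∃ τ : Cz z, (τ : G) ∈ centN S ∧ (∃ a : ℕ, (τ : G) ^ 5 ^ a = 1) ∧
    orderOf (proj z τ) = 5 ∧ proj z τ ∈ Lbar S z := by
  haveI : Fact (Nat.Prime 5) := ⟨by norm_num⟩
  obtain ⟨d, hd⟩ := exists_prime_orderOf_dvd_card' 5 hD.five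
  rw [← Subgroup.orderOf_coe, ← Subgroup.orderOf_coe] at hd
  obtain ⟨c, hc⟩ := proj_surjective ((d : Lbar S z) : Cbar z)
  obtain ⟨j, hj, a, ha⟩ := exists_five_lift (proj z) (x := c) (by rw [hc]; exact hd)
  have hdp : ((d : Lbar S z) : Cbar z) • h.pt = h.pt := mem_stabilizer_iff.1 d.2
  have hd5 : ((d : Lbar S z) : Cbar z) ^ 5 ^ 1 = 1 := by rw [pow_one, ← hd, pow_orderOf_eq_one]
  set τ : Cz z := c ^ j with hτ
  have hτN : (τ : G) ∈ normalizer ((S : Subgroup G) : Set G) :=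
    h.smul_pt_iff.1 (by rw [← proj_smul, hj, hc]; exact hdp)
  refine ⟨τ, ⟨hτN, mem_centralizer_iff.2 fun e he => ?_⟩, ⟨a, ?_⟩, by rw [hj, hc, hd],
    by rw [hj, hc]; exact (d : Lbar S z).2⟩
  · set e₀ : Cz z := ⟨e, h.omegaZ_le_cz he⟩
    have hcomm : Commute (proj z τ) (proj z e₀) := by
      rw [hj, hc]
      exact hD.commute_of_five hdp hd5 (h.mem_omegaBar.2 ⟨e₀, he, rfl⟩)
    have hp : proj z e₀ = proj z (τ * e₀ * τ⁻¹) := by
      rw [map_mul, map_mul, map_inv, hcomm.eq, mul_inv_cancel_right]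
    rcases h.eq_or_of_proj_eq (e := e₀) (e' := τ * e₀ * τ⁻¹) he (conj_mem_omegaZ hτN he) hp with
      e1 | e1
    · exact (mul_inv_eq_iff_eq_mul.1 e1).symm
    · exact absurd e1 (h.conj_ne_mul hτN (commute_cz τ) he)
  · have := congrArg Subtype.val ha
    simpa using this

/-- The unitary case does not occur. -/
theorem false_of_unitary : False := by
  haveI : Fact (Nat.Prime 5) := ⟨by norm_num⟩
  haveI : Fact (Nat.Prime 2) := ⟨Nat.prime_two⟩
  obtain ⟨τ, hτD, ⟨a, hτa⟩, hτ5, hτL⟩ := hD.exists_tau main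
  -- a Sylow 5-subgroup containing `τ`
  have hτP : IsPGroup 5 (zpowers (⟨(τ : G), hτD⟩ : centN S)) := by
    obtain ⟨b, -, hb⟩ := (Nat.dvd_prime_pow (by norm_num : Nat.Prime 5)).1
      (orderOf_dvd_of_pow_eq_one hτa)
    exact IsPGroup.of_card (n := b) (by rw [Nat.card_zpowers, Subgroup.orderOf_mk, hb])
  obtain ⟨P₀, hP₀⟩ := hτP.exists_le_sylow
  set P := (P₀ : Subgroup (centN S)).map (centN S).subtype with hPdef
  have hPD : ∀ p ∈ P, p ∈ centN S := fun p hp => map_subtype_le _ hp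
  have hτmem : (τ : G) ∈ P := ⟨_, hP₀ (mem_zpowers _), rfl⟩
  have hPC : P ≤ Cz z := fun p hp =>
    mem_centralizer_singleton_iff.2 (commute_of_mem_centN (hPD p hp) h.mem).eq
  have hP5 : ∀ p ∈ P, ∃ b : ℕ, p ^ 5 ^ b = 1 := by
    rintro p ⟨q, hq, rfl⟩
    obtain ⟨b, hb⟩ := P₀.isPGroup' ⟨q, hq⟩
    exact ⟨b, congrArg (fun x : (P₀ : Subgroup (centN S)) => ((x : centN S) : G)) hb⟩
  have hpre : ∀ p ∈ P, ∀ x ∈ preSyl S z, Commute p x := fun p hp x hx => by
    obtain ⟨b, hb⟩ := hP5 p hp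
    exact h.commute_preSyl hb (hPD p hp).1 (fun e he => commute_of_mem_centN (hPD p hp) he) hx
  -- the images lie in `⟨τ⟩`
  set Pb := (P.subgroupOf (Cz z)).map (proj z) with hPb
  have hPb5 : IsPGroup 5 Pb := by
    refine IsPGroup.map ?_ _
    exact (P₀.isPGroup'.map _).comap_of_injective _ (Cz z).subtype_injective
  have hPbpt : ∀ p ∈ Pb, p • h.pt = h.pt := by
    rintro _ ⟨p, hp, rfl⟩
    rw [proj_smul]
    exact h.smul_pt_iff.2 (hPD _ hp).1
  have hPbeq : zpowers (proj z τ) = Pb :=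
    eq_of_le_of_card_ge (zpowers_le.2 ⟨τ, hτmem, rfl⟩)
      (by rw [Nat.card_zpowers, hτ5]; exact hD.card_five_group main hPb5 hPbpt)
  -- `U = [S, P]`
  set U := closure (comSet S P) with hU
  have hUS : U ≤ (S : Subgroup G) := by
    rw [hU, closure_le]
    rintro _ ⟨s, hs, p, hp, rfl⟩
    rw [mul_assoc, mul_assoc]
    refine mul_mem hs ?_
    have := (mem_normalizer_iff.1 (hPD p hp).1 s⁻¹).1 (inv_mem hs)
    rwa [mul_assoc] at this
  have hUimg : ∀ c : Cz z, (c : G) ∈ U → proj z c ∈ hD.img := by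
    have key : U ≤ (hD.img.comap (proj z)).map (Cz z).subtype := by
      rw [hU, closure_le]
      rintro _ ⟨s, hs, p, hp, rfl⟩
      set c : Cz z := ⟨s, h.sylow_le hs⟩ * ⟨p, hPC hp⟩ * (⟨s, h.sylow_le hs⟩ : Cz z)⁻¹ *
        (⟨p, hPC hp⟩ : Cz z)⁻¹ with hc
      refine ⟨c, ?_, rfl⟩
      have hcS : (c : G) ∈ (S : Subgroup G) := hUS (subset_closure ⟨s, hs, p, hp, rfl⟩)
      refine hD.mem_img main ?_ (h.proj_pt_sylow hcS) ?_
      · have hpL : proj z ⟨p, hPC hp⟩ ∈ Lbar S z := by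
          have : proj z ⟨p, hPC hp⟩ ∈ zpowers (proj z τ) := hPbeq ▸ ⟨⟨p, hPC hp⟩, hp, rfl⟩
          exact zpowers_le.2 hτL this
        rw [hc, map_mul, map_mul, map_mul, map_inv, map_inv]
        exact mul_mem (h.conj_lbar _ hpL) (inv_mem hpL)
      · obtain ⟨k, hk⟩ := IsPGroup.iff_orderOf.1 S.2 ⟨c, hcS⟩
        rw [Subgroup.orderOf_mk] at hk
        exact ⟨k, (orderOf_map_dvd _ _).trans (by rw [← Subgroup.orderOf_coe, hk])⟩
    intro c hc
    obtain ⟨c', hc', e⟩ := key hc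
    rwa [show c = c' from Subtype.ext e.symm]
  have hpren : ∀ s ∈ (S : Subgroup G), ∀ x ∈ preSyl S z, s⁻¹ * x * s ∈ preSyl S z := by
    intro s hs x hx
    obtain ⟨hxS, hxC, hx1⟩ := mem_preSyl.1 hx
    refine mem_preSyl.2 ⟨mul_mem (mul_mem (inv_mem hs) hxS) hs,
      mul_mem (mul_mem (inv_mem (h.sylow_le hs)) hxC) (h.sylow_le hs), ?_⟩
    show proj z ((⟨s, h.sylow_le hs⟩ : Cz z)⁻¹ * ⟨x, hxC⟩ * ⟨s, h.sylow_le hs⟩) ∈ _
    rw [map_mul, map_mul, map_inv,
      ((h.commute_sylow_omegaBar (s := ⟨s, h.sylow_le hs⟩) hs hx1).inv_left).eq,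
      inv_mul_cancel_right]
    exact hx1
  have hUpre : ∀ u ∈ U, ∀ x ∈ preSyl S z, Commute u x := by
    intro u hu
    induction hu using closure_induction with
    | mem c hc =>
      obtain ⟨s, hs, p, hp, rfl⟩ := hc
      intro x hx
      refine mul_inv_eq_iff_eq_mul.1 ?_
      have e1 : p⁻¹ * x * p = x := by
        rw [(hpre p hp x hx).inv_left.eq, inv_mul_cancel_right]
      have e2 := hpre p hp _ (hpren s hs x hx)
      calc s * p * s⁻¹ * p⁻¹ * x * (s * p * s⁻¹ * p⁻¹)⁻¹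
          = s * (p * (s⁻¹ * (p⁻¹ * x * p) * s) * p⁻¹) * s⁻¹ := by group
        _ = x := by rw [e1, e2.eq, mul_inv_cancel_right]; group
    | one => exact fun x _ => Commute.one_left x
    | mul p q _ _ hp hq => exact fun x hx => (hp x hx).mul_left (hq x hx)
    | inv p _ hp => exact fun x hx => (hp x hx).inv_left
  -- five periodicity
  set t : G := (τ : G) with ht
  have ht5 : ∀ s ∈ (S : Subgroup G), Commute (t ^ 5) s := fun s hs => by
    obtain ⟨b, hb⟩ := hP5 (t ^ 5) (pow_mem hτmem 5)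
    refine h.commute_of_proj_one hb (pow_mem hτD.1 5)
      (fun e he => commute_of_mem_centN (pow_mem hτD 5) he) (pow_mem τ.2 5) ?_ hs
    show proj z (τ ^ 5) = 1
    rw [map_pow, ← hτ5, pow_orderOf_eq_one]
  have hUt : ∀ n : ℕ, ∀ u ∈ U, t ^ n * u * (t ^ n)⁻¹ ∈ U := by
    intro n u hu
    exact conj_mem_closure_comSet (pow_mem hτD.1 n)
      (fun p hp => mul_mem (mul_mem (pow_mem hτmem n) hp) (inv_mem (pow_mem hτmem n)))
      ⟨u, hu, rfl⟩
  -- an element of `U` outside the preimage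
  have hτp : proj z τ • h.pt = h.pt := hPbpt _ ⟨τ, hτmem, rfl⟩
  obtain ⟨u, huU, hu⟩ : ∃ u : Cz z, (u : G) ∈ U ∧ proj z u ∉ omegaBar S z := by
    by_contra hcon
    push Not at hcon
    have hall : ∀ q ∈ hD.img, Commute (proj z τ) q := by
      intro q hq
      obtain ⟨s, hs, rfl⟩ := hD.exists_lift hq
      have hw := hcon (s * τ * s⁻¹ * τ⁻¹) (subset_closure ⟨s, hs, t, hτmem, rfl⟩)
      rw [map_mul, map_mul, map_mul, map_inv, map_inv] at hw
      set d := proj z τ with hd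
      set q := proj z s with hqdef
      set w := q * d * q⁻¹ * d⁻¹ with hwdef
      have hd5 : d ^ 5 ^ 1 = 1 := by rw [pow_one, ← hτ5, pow_orderOf_eq_one]
      have hwd : Commute d w := hD.commute_of_five hτp hd5 hw
      have h1 : q * d * q⁻¹ = w * d := by rw [hwdef]; group
      have hw5 : w ^ 5 = 1 := by
        have h2 : (q * d * q⁻¹) ^ 5 = (w * d) ^ 5 := by rw [h1]
        rw [conj_pow, hwd.symm.mul_pow, show d ^ 5 = 1 from by simpa using hd5, mul_one,
          mul_inv_cancel, mul_one] at h2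
        exact h2.symm
      have hww : w ^ 2 = 1 := by
        obtain ⟨e, he, hew⟩ := h.mem_omegaBar.1 hw
        rw [pow_two, ← hew, ← map_mul, show e * e = 1 from Subtype.ext he.2.1, map_one]
      have hw1 : w = 1 := by
        rwa [show (5 : ℕ) = 2 * 2 + 1 from rfl, pow_succ, pow_mul, hww, one_pow, one_mul] at hw5
      rw [hw1, one_mul, mul_inv_eq_iff_eq_mul] at h1
      exact h1.symm
    have := hD.eq_one_of_commute main hτp (k := 1)
      (by rw [pow_one, ← hτ5, pow_orderOf_eq_one]) hall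
    rw [this, orderOf_one] at hτ5
    omega
  -- the image of `U` covers the group of order 64 modulo `omegaBar`
  set Ub := (U.subgroupOf (Cz z)).map (proj z) with hUb
  have hUbimg : Ub ≤ hD.img := by
    rintro _ ⟨c, hc, rfl⟩
    exact hUimg c hc
  have hτpow : orderOf (proj z τ) = 5 := hτ5
  have hcover : Ub ⊔ omegaBar S z = hD.img := by
    refine hD.eq_img main hτp hτpow (sup_le hUbimg (hD.omegaBar_le_img main)) le_sup_right ?_
      (Subgroup.mem_sup_left (show proj z u ∈ Ub from ⟨u, huU, rfl⟩)) hu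
    intro x hx
    have hle : (Ub ⊔ omegaBar S z).map (MulAut.conj (proj z τ)).toMonoidHom ≤ Ub ⊔ omegaBar S z := by
      rw [Subgroup.map_sup]
      refine sup_le_sup ?_ ?_
      · rintro _ ⟨_, ⟨c, hc, rfl⟩, rfl⟩
        refine ⟨τ * c * τ⁻¹, ?_, by simp [map_mul]⟩
        have := hUt 1 _ hc
        rw [pow_one] at this
        exact this
      · rintro _ ⟨c, hc, rfl⟩
        exact h.conj_omegaBar hτp hc
    exact hle ⟨x, hx, rfl⟩
  have hdecomp : ∀ q ∈ hD.img, ∃ c : Cz z, (c : G) ∈ U ∧ ∃ b ∈ omegaBar S z, q = proj z c * b := by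
    intro q hq
    rw [← hcover] at hq
    rw [sup_eq_closure] at hq
    induction hq using closure_induction with
    | mem x hx =>
      rcases hx with hx | hx
      · obtain ⟨c, hc, rfl⟩ := hx
        exact ⟨c, hc, 1, one_mem _, (mul_one _).symm⟩
      · exact ⟨1, one_mem _, x, hx, by rw [map_one, one_mul]⟩
    | one => exact ⟨1, one_mem _, 1, one_mem _, by simp⟩
    | mul x y _ _ hx hy =>
      obtain ⟨c, hc, b, hb, rfl⟩ := hx
      obtain ⟨c', hc', b', hb', rfl⟩ := hy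
      refine ⟨c * c', mul_mem hc hc', b * b', mul_mem hb hb', ?_⟩
      rw [map_mul, show proj z c * b * (proj z c' * b') = proj z c * (b * proj z c') * b' by group,
        ← (hD.commute_img (hUimg c' hc') hb).eq]
      group
    | inv x _ hx =>
      obtain ⟨c, hc, b, hb, rfl⟩ := hx
      refine ⟨c⁻¹, inv_mem hc, b⁻¹, inv_mem hb, ?_⟩
      rw [map_inv, mul_inv_rev, ((hD.commute_img (hUimg c hc) hb).inv_inv).eq]
  -- every element of `omegaBar` is the image of a commutator of `U`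
  have hcommall : ∀ x ∈ omegaBar S z, ∃ c c' : Cz z, (c : G) ∈ U ∧ (c' : G) ∈ U ∧
      proj z (c * c' * c⁻¹ * c'⁻¹) = x := by
    obtain ⟨q, hq, q', hq', hne⟩ : ∃ q ∈ hD.img, ∃ q' ∈ hD.img, q * q' * q⁻¹ * q'⁻¹ ≠ 1 := by
      by_contra hcon
      push Not at hcon
      have hab : ∀ a ∈ hD.img, ∀ b ∈ hD.img, Commute a b := fun a ha b hb =>
        mul_inv_eq_iff_eq_mul.1 (mul_inv_eq_one.1 (hcon a ha b hb))
      let f : hD.img →* omegaBar S z :=
        { toFun := fun q => ⟨(q : Cbar z) * q, hD.mul_self_mem q.2⟩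
          map_one' := Subtype.ext (one_mul _)
          map_mul' := fun a b => Subtype.ext (by
            show (a : Cbar z) * b * ((a : Cbar z) * b) = (a : Cbar z) * a * ((b : Cbar z) * b)
            rw [← pow_two, ← pow_two, ← pow_two, (hab a a.2 b b.2).mul_pow]) }
      have hker : Nat.card f.ker ≤ 4 := by
        rw [← h.card_omegaBar]
        refine Nat.card_le_card_of_injective (fun q => ⟨(q : hD.img), ?_⟩) fun a b e =>
          Subtype.ext (Subtype.ext (congrArg Subtype.val e :))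
        have h1 : ((q : hD.img) : Cbar z) * (q : hD.img) = 1 := congrArg Subtype.val q.2
        rcases eq_or_ne ((q : hD.img) : Cbar z) 1 with e | e
        · rw [e]; exact one_mem _
        · obtain ⟨w, hw, hwe⟩ := (q : hD.img).2
          have h2 : orderOf w = 2 := by
            rw [← Subgroup.orderOf_coe]
            change orderOf ((Lbar S z).subtype w) = 2
            rw [hwe]
            exact orderOf_eq_two_iff_mul.2 ⟨e, h1⟩
          have h3 := ((h.invAt_iff main w).1 ⟨h2, mem_stabilizer_iff.1 (hD.kernel.le hw)⟩).1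
          rwa [← hwe]
      have hrange : Nat.card f.range ≤ 4 := by
        rw [← h.card_omegaBar]
        exact Subgroup.card_le_card_group _
      have h64 := Subgroup.card_eq_card_quotient_mul_card_subgroup f.ker
      rw [hD.card_img, Nat.card_congr (QuotientGroup.quotientKerEquivRange f).toEquiv] at h64
      have : Nat.card f.range * Nat.card f.ker ≤ 4 * 4 := Nat.mul_le_mul hrange hker
      omega
    have hw : q * q' * q⁻¹ * q'⁻¹ ∈ omegaBar S z := by
      have e : q * q' * q⁻¹ * q'⁻¹ =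
          (q * q' * (q * q')) * (q'⁻¹ * (q * q)⁻¹ * q') * (q' * q')⁻¹ := by group
      rw [e]
      refine mul_mem (mul_mem (hD.mul_self_mem (mul_mem hq hq')) ?_) (inv_mem (hD.mul_self_mem hq'))
      rw [((hD.commute_img hq' (inv_mem (hD.mul_self_mem hq))).inv_left).eq, inv_mul_cancel_right]
      exact inv_mem (hD.mul_self_mem hq)
    intro x hx
    rcases eq_or_ne x 1 with rfl | hx1
    · exact ⟨1, 1, one_mem _, one_mem _, by simp⟩
    have hwm := h.memb_pt_iff.2 ⟨hw, hne⟩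
    obtain ⟨g, hg, hgs⟩ := h.setting.exists_conj_memAt (c := h.pt) (s := q * q' * q⁻¹ * q'⁻¹) (t := x)
      hwm (h.memb_pt_iff.2 ⟨hx, hx1⟩)
    rw [mem_stabilizer_iff] at hg
    obtain ⟨c, hc, b, hb, e⟩ := hdecomp _ (hD.conj_mem_img main hg hq)
    obtain ⟨c', hc', b', hb', e'⟩ := hdecomp _ (hD.conj_mem_img main hg hq')
    refine ⟨c, c', hc, hc', ?_⟩
    rw [← hgs, show g * (q * q' * q⁻¹ * q'⁻¹) * g⁻¹ =
      (g * q * g⁻¹) * (g * q' * g⁻¹) * (g * q * g⁻¹)⁻¹ * (g * q' * g⁻¹)⁻¹ by group, e, e']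
    have hbc := hD.commute_img (hUimg c hc) hb
    have hbc' := hD.commute_img (hUimg c' hc') hb
    have hb'c := hD.commute_img (hUimg c hc) hb'
    have hb'c' := hD.commute_img (hUimg c' hc') hb'
    have hbb : Commute b b' := hD.commute_img (hD.omegaBar_le_img main hb) hb'
    simp only [map_mul, map_inv]
    generalize proj z c = A at hbc hb'c ⊢
    generalize proj z c' = B at hbc' hb'c' ⊢
    -- remove the central factors
    have e1 : A * b * (B * b') * (A * b)⁻¹ = A * B * A⁻¹ * b' := by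
      calc A * b * (B * b') * (A * b)⁻¹ = A * (b * (B * b') * b⁻¹) * A⁻¹ := by group
        _ = A * (B * b') * A⁻¹ := by rw [(hbc'.symm.mul_right hbb).eq, mul_inv_cancel_right]
        _ = A * B * (b' * A⁻¹) := by group
        _ = A * B * A⁻¹ * b' := by rw [← hb'c.inv_left.eq]; group
    rw [e1]
    calc A * B * A⁻¹ * B⁻¹ = A * B * A⁻¹ * (b' * b'⁻¹) * B⁻¹ := by rw [mul_inv_cancel, mul_one]
      _ = A * B * A⁻¹ * b' * (B * b')⁻¹ := by group
  -- the group generated by the conjugates of `u` and the central part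
  set T := closure ({x | ∃ i : ℕ, t ^ i * u * (t ^ i)⁻¹ = x} ∪ ((U ⊓ preSyl S z : Subgroup G) : Set G))
    with hT
  have hTU : T ≤ U := (closure_le _).2 (by
    rintro x (⟨i, rfl⟩ | hx)
    · exact hUt i u huU
    · exact hx.1)
  have hcom_pre : ∀ c c' : Cz z, (c : G) ∈ U → (c' : G) ∈ U →
      proj z (c * c' * c⁻¹ * c'⁻¹) ∈ omegaBar S z → ((c * c' * c⁻¹ * c'⁻¹ : Cz z) : G) ∈ T := by
    intro c c' hc hc' hb
    have hmemU : ((c * c' * c⁻¹ * c'⁻¹ : Cz z) : G) ∈ U :=
      mul_mem (mul_mem (mul_mem hc hc') (inv_mem hc)) (inv_mem hc')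
    exact subset_closure (Or.inr ⟨hmemU, mem_preSyl.2 ⟨hUS hmemU, _, hb⟩⟩)
  set Tb := (T.subgroupOf (Cz z)).map (proj z) with hTb
  have hTbimg : Tb = hD.img := by
    refine hD.eq_img main hτp hτpow
      (show Tb ≤ hD.img from le_trans (map_mono (fun c hc => hTU hc)) hUbimg) ?_ ?_
      (show proj z u ∈ Tb from ⟨u, subset_closure (Or.inl ⟨0, by simp⟩), rfl⟩) hu
    · intro x hx
      obtain ⟨c, c', hc, hc', e⟩ := hcommall x hx
      exact ⟨_, hcom_pre c c' hc hc' (by rw [e]; exact hx), e⟩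
    · rintro _ ⟨c, hc, rfl⟩
      refine ⟨τ * c * τ⁻¹, ?_, by simp [map_mul]⟩
      have hle : T.map (MulAut.conj t).toMonoidHom ≤ T := by
        rw [hT, MonoidHom.map_closure, closure_le]
        rintro _ ⟨x, hx | hx, rfl⟩
        · obtain ⟨i, rfl⟩ := hx
          refine subset_closure (Or.inl ⟨i + 1, ?_⟩)
          rw [MulEquiv.coe_toMonoidHom, MulAut.conj_apply, pow_succ']
          group
        · refine subset_closure (Or.inr ?_)
          rw [MulEquiv.coe_toMonoidHom, MulAut.conj_apply,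
            (hpre t hτmem x hx.2).eq, mul_inv_cancel_right]
          exact hx
      exact hle ⟨c, hc, rfl⟩
  have hUT : U ≤ T := by
    intro v hv
    set v₀ : Cz z := ⟨v, h.sylow_le (hUS hv)⟩
    obtain ⟨c, hc, e⟩ : proj z v₀ ∈ Tb := by rw [hTbimg]; exact hUimg v₀ hv
    have hcT : (c : G) ∈ T := hc
    have hmem : (c : G)⁻¹ * v ∈ U := mul_mem (inv_mem (hTU hcT)) hv
    have h2 : (c : G)⁻¹ * v ∈ U ⊓ preSyl S z := ⟨hmem, mem_preSyl.2 ⟨hUS hmem,
      mul_mem (inv_mem c.2) (h.sylow_le (hUS hv)), by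
        show proj z (c⁻¹ * v₀) ∈ _
        rw [map_mul, map_inv, e, inv_mul_cancel]
        exact one_mem _⟩⟩
    have := mul_mem hcT (subset_closure (Or.inr h2) : (c : G)⁻¹ * v ∈ T)
    rwa [mul_inv_cancel_left] at this
  -- squares and commutators of `U` are central in it
  have hUpre' : ∀ x ∈ U, ∀ y ∈ U, x * y * x⁻¹ * y⁻¹ ∈ U ⊓ preSyl S z := by
    intro x hx y hy
    have hmem : x * y * x⁻¹ * y⁻¹ ∈ U :=
      mul_mem (mul_mem (mul_mem hx hy) (inv_mem hx)) (inv_mem hy)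
    set x₀ : Cz z := ⟨x, h.sylow_le (hUS hx)⟩
    set y₀ : Cz z := ⟨y, h.sylow_le (hUS hy)⟩
    refine ⟨hmem, mem_preSyl.2 ⟨hUS hmem, h.sylow_le (hUS hmem), ?_⟩⟩
    show proj z (x₀ * y₀ * x₀⁻¹ * y₀⁻¹) ∈ _
    simp only [map_mul, map_inv]
    have hq := hUimg x₀ hx
    have hq' := hUimg y₀ hy
    generalize proj z x₀ = q at hq ⊢
    generalize proj z y₀ = q' at hq' ⊢
    rw [show q * q' * q⁻¹ * q'⁻¹ =
        (q * q' * (q * q')) * (q'⁻¹ * (q * q)⁻¹ * q') * (q' * q')⁻¹ by group]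
    refine mul_mem (mul_mem (hD.mul_self_mem (mul_mem hq hq')) ?_) (inv_mem (hD.mul_self_mem hq'))
    rw [((hD.commute_img hq' (inv_mem (hD.mul_self_mem hq))).inv_left).eq, inv_mul_cancel_right]
    exact inv_mem (hD.mul_self_mem hq)
  have hcen : ∀ x ∈ U, ∀ y ∈ U, ∀ v ∈ U, Commute (x * y * x⁻¹ * y⁻¹) v := fun x hx y hy v hv =>
    (hUpre v hv _ (hUpre' x hx y hy).2).symm
  have hsq : ∀ x ∈ U, ∀ y ∈ U,
      (x * y * x⁻¹ * y⁻¹) * (x * y * x⁻¹ * y⁻¹) = 1 := by
    intro x hx y hy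
    have hxx : x * x ∈ preSyl S z := mem_preSyl.2 ⟨hUS (mul_mem hx hx),
      h.sylow_le (hUS (mul_mem hx hx)), by
        show proj z ((⟨x, h.sylow_le (hUS hx)⟩ : Cz z) * ⟨x, h.sylow_le (hUS hx)⟩) ∈ _
        rw [map_mul]
        exact hD.mul_self_mem (hUimg ⟨x, h.sylow_le (hUS hx)⟩ hx)⟩
    set k := x * y * x⁻¹ * y⁻¹ with hk
    have e2 : x * x * y * (x * x)⁻¹ * y⁻¹ = 1 := by
      rw [(hUpre y hy _ hxx).symm.eq]; group
    calc k * k = k * x * y * x⁻¹ * y⁻¹ := by rw [hk]; group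
      _ = x * k * y * x⁻¹ * y⁻¹ := by rw [(hcen x hx y hy x hx).eq]
      _ = x * x * y * (x * x)⁻¹ * y⁻¹ := by rw [hk]; group
      _ = 1 := e2
  -- the two commutators
  set uc : ℕ → G := fun i => t ^ i * u * (t ^ i)⁻¹ with huc
  have hucU : ∀ i, uc i ∈ U := fun i => hUt i u huU
  have hper : ∀ i, uc (i + 5) = uc i := fun i => by
    rw [huc]
    simp only
    calc t ^ (i + 5) * u * (t ^ (i + 5))⁻¹ = t ^ i * (t ^ 5 * u * (t ^ 5)⁻¹) * (t ^ i)⁻¹ := by
          rw [pow_add]; group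
      _ = t ^ i * u * (t ^ i)⁻¹ := by rw [(ht5 _ (hUS huU)).eq, mul_inv_cancel_right]
  have hperm : ∀ m i, uc (i + 5 * m) = uc i := by
    intro m
    induction m with
    | zero => simp
    | succ m ih => intro i; rw [Nat.mul_succ, ← Nat.add_assoc, hper, ih]
  have hfix : ∀ n : ℕ, ∀ k ∈ U ⊓ preSyl S z, t ^ n * k * (t ^ n)⁻¹ = k := fun n k hk => by
    rw [(hpre (t ^ n) (pow_mem hτmem n) k hk.2).eq, mul_inv_cancel_right]
  have hshift : ∀ n i j, uc i * uc j * (uc i)⁻¹ * (uc j)⁻¹ =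
      uc (n + i) * uc (n + j) * (uc (n + i))⁻¹ * (uc (n + j))⁻¹ := by
    intro n i j
    conv_lhs => rw [← hfix n _ (hUpre' _ (hucU i) _ (hucU j))]
    rw [huc]
    simp only [pow_add]
    group
  have hsymm : ∀ x ∈ U, ∀ y ∈ U, y * x * y⁻¹ * x⁻¹ = x * y * x⁻¹ * y⁻¹ := fun x hx y hy => by
    have := hsq x hx y hy
    calc y * x * y⁻¹ * x⁻¹ = (x * y * x⁻¹ * y⁻¹)⁻¹ := by group
      _ = x * y * x⁻¹ * y⁻¹ := inv_eq_of_mul_eq_one_right this
  set c1 := uc 0 * uc 1 * (uc 0)⁻¹ * (uc 1)⁻¹ with hc1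
  set c2 := uc 0 * uc 2 * (uc 0)⁻¹ * (uc 2)⁻¹ with hc2
  have hc12 : c1 * c2 = c2 * c1 :=
    (hUpre c1 (hUpre' _ (hucU 0) _ (hucU 1)).1 c2 (hUpre' _ (hucU 0) _ (hucU 2)).2).eq
  have h11 : c1 * c1 = 1 := hsq _ (hucU 0) _ (hucU 1)
  have h22 : c2 * c2 = 1 := hsq _ (hucU 0) _ (hucU 2)
  let W : Subgroup G :=
    { carrier := {x | x = 1 ∨ x = c1 ∨ x = c2 ∨ x = c1 * c2}
      one_mem' := Or.inl rfl
      mul_mem' := by
        have e3 : c1 * (c1 * c2) = c2 := by rw [← mul_assoc, h11, one_mul]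
        have e4 : c2 * (c1 * c2) = c1 := by rw [← mul_assoc, ← hc12, mul_assoc, h22, mul_one]
        have e5 : c1 * c2 * c1 = c2 := by rw [mul_assoc, ← hc12, e3]
        have e6 : c1 * c2 * c2 = c1 := by rw [mul_assoc, h22, mul_one]
        have e7 : c1 * c2 * (c1 * c2) = 1 := by rw [← mul_assoc, e5, h22]
        rintro p q (rfl | rfl | rfl | rfl) (rfl | rfl | rfl | rfl) <;>
          simp [h11, h22, e3, e4, e5, e6, e7, ← hc12]
      inv_mem' := by
        rintro p (rfl | rfl | rfl | rfl)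
        · exact Or.inl inv_one
        · exact Or.inr (Or.inl (inv_eq_of_mul_eq_one_right h11))
        · exact Or.inr (Or.inr (Or.inl (inv_eq_of_mul_eq_one_right h22)))
        · exact Or.inr (Or.inr (Or.inr (by
            rw [mul_inv_rev, inv_eq_of_mul_eq_one_right h11, inv_eq_of_mul_eq_one_right h22, hc12]))) }
  have hWgen : ∀ i j, uc i * uc j * (uc i)⁻¹ * (uc j)⁻¹ ∈ W := by
    intro i j
    rw [hshift (4 * i) i j, show 4 * i + i = 0 + 5 * i by ring, hperm,
      ← Nat.mod_add_div (4 * i + j) 5, hperm]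
    have hn := Nat.mod_lt (4 * i + j) (show 0 < 5 by norm_num)
    interval_cases (4 * i + j) % 5
    · exact Or.inl (by group)
    · exact Or.inr (Or.inl rfl)
    · exact Or.inr (Or.inr (Or.inl rfl))
    · refine Or.inr (Or.inr (Or.inl ?_))
      rw [hshift 2 0 3, show 2 + 3 = 0 + 5 * 1 from rfl, hperm, hsymm _ (hucU 0) _ (hucU _)]
    · refine Or.inr (Or.inl ?_)
      rw [hshift 1 0 4, show 1 + 4 = 0 + 5 * 1 from rfl, hperm, hsymm _ (hucU 0) _ (hucU _)]
  -- all commutators of `U` lie in `W`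
  have hbil : ∀ x ∈ U, ∀ y ∈ U, ∀ v ∈ U,
      x * y * v * (x * y)⁻¹ * v⁻¹ = (y * v * y⁻¹ * v⁻¹) * (x * v * x⁻¹ * v⁻¹) := by
    intro x hx y hy v hv
    have hc := hcen y hy v hv x hx
    calc x * y * v * (x * y)⁻¹ * v⁻¹ = x * (y * v * y⁻¹ * v⁻¹) * x⁻¹ * (x * v * x⁻¹ * v⁻¹) := by group
      _ = _ := by rw [← hc.eq, mul_inv_cancel_right]
  have hW : ∀ x ∈ T, ∀ y ∈ T, x * y * x⁻¹ * y⁻¹ ∈ W := by
    have hone : ∀ x ∈ T, ∀ y ∈ ({x | ∃ i : ℕ, t ^ i * u * (t ^ i)⁻¹ = x} ∪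
        ((U ⊓ preSyl S z : Subgroup G) : Set G)), x * y * x⁻¹ * y⁻¹ ∈ W := by
      intro x hx y hy
      have hyU : y ∈ U := hTU (subset_closure hy)
      have hxU := hTU hx
      rcases hy with hy | hy
      swap
      · rw [(hUpre x hxU y hy.2).eq, mul_inv_cancel_right, mul_inv_cancel]
        exact one_mem W
      obtain ⟨j, rfl⟩ := hy
      rw [hT] at hx
      induction hx using closure_induction with
      | mem v hv =>
        rcases hv with hv | hv
        · obtain ⟨i, rfl⟩ := hv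
          exact hWgen i j
        · rw [← (hUpre _ hyU v hv.2).eq, mul_inv_cancel_right, mul_inv_cancel]
          exact one_mem W
      | one =>
        rw [one_mul, inv_one, mul_one, mul_inv_cancel]
        exact one_mem W
      | mul p q hp hq ihp ihq =>
        rw [hbil p (hTU hp) q (hTU hq) _ hyU]
        exact mul_mem (ihq (hTU hq)) (ihp (hTU hp))
      | inv p hp ihp =>
        have hpU := hTU hp
        have e := hbil p hpU p⁻¹ (inv_mem hpU) _ hyU
        rw [mul_inv_cancel, one_mul, inv_one, mul_one, mul_inv_cancel, eq_comm,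
          mul_eq_one_iff_eq_inv] at e
        rw [e]
        exact inv_mem (ihp hpU)
    intro x hx y hy
    have hxU := hTU hx
    rw [hT] at hy
    induction hy using closure_induction with
    | mem v hv => exact hone x hx v hv
    | one =>
      rw [mul_one, inv_one, mul_one, mul_inv_cancel]
      exact one_mem W
    | mul p q hp hq ihp ihq =>
      have hpU := hTU hp
      have hc := hcen x hxU q (hTU hq) p hpU
      rw [show x * (p * q) * x⁻¹ * (p * q)⁻¹ =
        (x * p * x⁻¹ * p⁻¹) * (p * (x * q * x⁻¹ * q⁻¹) * p⁻¹) by group, ← hc.eq, mul_inv_cancel_right]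
      exact mul_mem ihp ihq
    | inv p hp ihp =>
      have hpU := hTU hp
      rw [show x * p⁻¹ * x⁻¹ * p⁻¹⁻¹ = p⁻¹ * (x * p * x⁻¹ * p⁻¹)⁻¹ * p by group,
        ← ((hcen x hxU p hpU p⁻¹ (inv_mem hpU)).inv_left).eq, inv_mul_cancel_right]
      exact inv_mem ihp
  have hWsub : ⁅U, U⁆ ≤ W := by
    rw [Subgroup.commutator_le]
    intro x hx y hy
    rw [commutatorElement_def]
    exact hW x (hUT hx) y (hUT hy)
  -- the four elements have images covering `omegaBar`, so `z` is none of them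
  obtain ⟨s, r, hs, hr, hs1, hr1, hsr, hsrc, -⟩ := h.exists_three
  have hget : ∀ x ∈ omegaBar S z, ∃ v : Cz z, (v : G) ∈ ⁅U, U⁆ ∧ proj z v = x := fun x hx => by
    obtain ⟨c, c', hc, hc', e⟩ := hcommall x hx
    exact ⟨_, by
      have := commutator_mem_commutator hc hc'
      rw [commutatorElement_def] at this
      exact this, e⟩
  have hzW : z ∉ W := by
    intro hzW
    obtain ⟨v1, hv1, e1⟩ := hget s hs
    obtain ⟨v2, hv2, e2⟩ := hget r hr
    obtain ⟨v3, hv3, e3⟩ := hget (s * r) (mul_mem hs hr)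
    classical
    have hsub : ({1, z, (v1 : G), (v2 : G), (v3 : G)} : Finset G) ⊆ {1, c1, c2, c1 * c2} := by
      intro x hx
      simp only [Finset.mem_insert, Finset.mem_singleton] at hx ⊢
      have m0 : (1 : G) ∈ W := one_mem W
      have m1 : (v1 : G) ∈ W := hWsub hv1
      have m2 : (v2 : G) ∈ W := hWsub hv2
      have m3 : (v3 : G) ∈ W := hWsub hv3
      rcases hx with rfl | rfl | rfl | rfl | rfl
      · exact Or.inl rfl
      · exact hzW
      · exact m1
      · exact m2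
      · exact m3
    have hle := (Finset.card_le_card hsub).trans Finset.card_le_four
    have hne0 : ∀ (v : Cz z) {x : Cbar z}, proj z v = x → x ≠ 1 → (v : G) ≠ 1 ∧ (v : G) ≠ z := by
      intro v x e hx
      refine ⟨fun e' => hx ?_, fun e' => hx ?_⟩
      · rw [← e, show v = 1 from Subtype.ext e', map_one]
      · rw [← e, show v = ⟨z, mem_centralizer_singleton_iff.2 rfl⟩ from Subtype.ext e', h.proj_z]
    have hne1 : ∀ (v w : Cz z) {x y : Cbar z}, proj z v = x → proj z w = y → x ≠ y → (v : G) ≠ w :=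
      fun v w x y e e' hxy e'' => hxy (by rw [← e, ← e', show v = w from Subtype.ext e''])
    have hsr1 : s * r ≠ 1 := fun e => hsr (by
      obtain ⟨f, hf, hfr⟩ := h.mem_omegaBar.1 hr
      rw [mul_eq_one_iff_eq_inv] at e
      rw [e, ← hfr, ← map_inv, show f⁻¹ = f from Subtype.ext (inv_eq_of_mul_eq_one_right hf.2.1)])
    obtain ⟨a1, b1⟩ := hne0 v1 e1 hs1
    obtain ⟨a2, b2⟩ := hne0 v2 e2 hr1
    obtain ⟨a3, b3⟩ := hne0 v3 e3 hsr1
    have d12 := hne1 v1 v2 e1 e2 hsr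
    have d13 := hne1 v1 v3 e1 e3 (fun e => hr1 (mul_eq_left.1 e.symm))
    have d23 := hne1 v2 v3 e2 e3 (fun e => hs1 (mul_eq_right.1 e.symm))
    simp [h.ne.symm, a1.symm, a2.symm, a3.symm, b1.symm, b2.symm, b3.symm, d12, d13, d23] at hle
  -- an element of `N(S) ⊓ N(P)` carrying one of them to `z`
  obtain ⟨v, hv, hvs⟩ := hget s hs
  have hvU : (v : G) ∈ U := (Subgroup.commutator_le.2 fun x hx y hy => by
    rw [commutatorElement_def]; exact (hUpre' x hx y hy).1) hv
  have hvpre : (v : G) ∈ preSyl S z :=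
    mem_preSyl.2 ⟨hUS hvU, v.2, by rw [show (⟨(v : G), v.2⟩ : Cz z) = v from rfl, hvs]; exact hs⟩
  have hvv : (v : G) * v = 1 := by
    rcases (hWsub hv : (v : G) ∈ W) with e | e | e | e <;> rw [e]
    · exact one_mul 1
    · exact h11
    · exact h22
    · rw [show c1 * c2 * (c1 * c2) = c1 * (c2 * c1) * c2 by group, ← hc12,
        show c1 * (c1 * c2) * c2 = c1 * c1 * (c2 * c2) by group, h11, h22, one_mul]
  have hvE := h.mem_omegaZ_of_preSyl hvpre hvv
  have hv1 : (v : G) ≠ 1 := fun e => hs1 (by rw [← hvs, show v = 1 from Subtype.ext e, map_one])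
  obtain ⟨n, hn, hnv⟩ := h.exists_conj_z hvE hv1
  have hn' := inv_mem hn
  -- Frattini
  have hPn : IsPGroup 5 ((P.map (MulAut.conj n⁻¹).toMonoidHom).comap (centN S).subtype) :=
    ((P₀.isPGroup'.map _).map _).comap_of_injective _ (centN S).subtype_injective
  obtain ⟨R, hR⟩ := hPn.exists_le_sylow
  obtain ⟨x, hx⟩ := MulAction.exists_smul_eq (centN S) R P₀
  have hm : ∀ p ∈ P, ((x : G) * n⁻¹) * p * ((x : G) * n⁻¹)⁻¹ ∈ P := by
    intro p hp
    have hmem : n⁻¹ * p * n⁻¹⁻¹ ∈ centN S := conj_mem_centN hn' (hPD p hp)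
    have h1 : (⟨_, hmem⟩ : centN S) ∈ (R : Subgroup (centN S)) := hR ⟨p, hp, rfl⟩
    refine ⟨x * ⟨_, hmem⟩ * x⁻¹, ?_, ?_⟩
    · rw [← hx, Sylow.coe_subgroup_smul]
      exact ⟨_, h1, rfl⟩
    · show (x : G) * (n⁻¹ * p * n⁻¹⁻¹) * (x : G)⁻¹ = _
      group
  have hmap := Subgroup.commutator_mono (conj_mem_closure_comSet (S := S) (mul_mem x.2.1 hn') hm)
    (conj_mem_closure_comSet (S := S) (mul_mem x.2.1 hn') hm)
  rw [← Subgroup.map_commutator] at hmap
  have hz' : z ∈ ⁅U, U⁆ := by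
    refine hmap ⟨v, hv, ?_⟩
    rw [MulEquiv.coe_toMonoidHom, MulAut.conj_apply, ← hnv]
    calc (x : G) * n⁻¹ * (n * z * n⁻¹) * ((x : G) * n⁻¹)⁻¹ = (x : G) * z * (x : G)⁻¹ := by group
      _ = z := by rw [(commute_of_mem_centN x.2 h.mem).eq, mul_inv_cancel_right]
  exact hzW (hWsub hz')

end UnitaryData

end CfsgLib.SylInter
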