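import Cfsg.Agent.Lib.SylInter.CaseOne
import Cfsg.Agent.Lib.SylInter.Unitary
import Cfsg.Agent.Lib.SylInter.JankoFive
import Cfsg.Agent.Lib.SylInter.RankTwo
import Cfsg.Agent.Lib.PF.OddOrder
import Cfsg.Prelude.Def_Sporadic

/-!
Simple groups in which a central intersection of two Sylow 2-subgroups has 2-rank at most one.
-/

set_option autoImplicit false
set_option linter.style.haveILetI false

namespace CfsgLib.SylInter

open Subgroup CfsgLib.Involutions CfsgLib.StrongCrit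

universe u

/-- The conclusion. -/
def FiveTypes (G : Type u) [Group G] : Prop :=
  (∃ (n : ℕ) (F : Type) (_ : Field F) (_ : Fintype F), 2 ≤ n ∧ Fintype.card F = 2 ^ n ∧
      Nonempty (G ≃* Matrix.ProjectiveSpecialLinearGroup (Fin 2) F)) ∨
    (∃ (m : ℕ) (F : Type) (_ : Field F) (_ : Fintype F), 1 ≤ m ∧ Fintype.card F = 2 ^ (2 * m + 1) ∧
        Nonempty (G ≃* ↥(Cfsg.Lie.Sz F (2 ^ (m + 1))))) ∨
    (∃ (n : ℕ) (F : Type) (_ : Field F) (_ : Fintype F), 2 ≤ n ∧ Fintype.card F = 4 ^ n ∧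
        Nonempty (G ≃* Cfsg.PSU 3 F (2 ^ n))) ∨
    (∃ (F : Type) (_ : Field F) (_ : Fintype F), (Fintype.card F % 8 = 3 ∨ Fintype.card F % 8 = 5) ∧
        5 < Fintype.card F ∧ Nonempty (G ≃* Matrix.ProjectiveSpecialLinearGroup (Fin 2) F)) ∨
    Cfsg.IsJ1 G

theorem fiveTypes_of_bender {G : Type u} [Group G] (h : BenderQ.IsBenderType G) : FiveTypes G := by
  rcases h with ⟨F, i1, i2, ⟨n, hn, hF⟩, hf⟩ | ⟨F, i1, i2, m, hm, hF, hf⟩ | ⟨F, i1, i2, n, hn, hF, hf⟩
  · exact Or.inl ⟨n, F, i1, i2, hn, hF, hf⟩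
  · exact Or.inr (Or.inl ⟨m, F, i1, i2, hm, hF, hf⟩)
  · refine Or.inr (Or.inr (Or.inl ⟨n, F, i1, i2, hn, ?_, hf⟩))
    rw [hF, ← pow_mul, mul_comm, pow_mul]
    norm_num

theorem fiveTypes_of_pslTwo {G : Type u} [Group G] (h : PSLTwoTypes G) : FiveTypes G := by
  rcases h with h | h
  · exact Or.inl h
  · exact Or.inr (Or.inr (Or.inr (Or.inl h)))

variable {G : Type u} [Group G] [Finite G]

theorem exists_omegaZ [IsSimpleGroup G] (hG : ¬ IsMulCommutative G) (S : Sylow 2 G) :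
    ∃ z ∈ omegaZ S, z ≠ 1 := by
  haveI : Fact (Nat.Prime 2) := ⟨Nat.prime_two⟩
  have h2 : 2 ∣ Nat.card G := by
    by_contra h
    have := CfsgLib.PF.oddSolvable.{u} G (Nat.odd_iff.2 (by omega))
    exact hG ⟨⟨fun a b => IsSimpleGroup.comm_iff_isSolvable.2 this a b⟩⟩
  haveI : Nontrivial (S : Subgroup G) :=
    Finite.one_lt_card_iff_nontrivial.1 (by
      have := Nat.le_of_dvd Nat.card_pos (S.dvd_card_of_dvd_card h2)
      omega)
  haveI := S.2.center_nontrivial
  obtain ⟨c, hc⟩ := exists_prime_orderOf_dvd_card' (G := Subgroup.center (S : Subgroup G)) 2 (by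
    obtain ⟨j, hj⟩ := IsPGroup.iff_card.mp (S.2.to_subgroup (Subgroup.center (S : Subgroup G)))
    rcases j with _ | j
    · rw [pow_zero] at hj
      exact absurd hj (ne_of_gt Finite.one_lt_card)
    · exact hj ▸ dvd_pow_self 2 (Nat.succ_ne_zero j))
  rw [← orderOf_coe, ← orderOf_coe] at hc
  exact ⟨_, ⟨(c : (S : Subgroup G)).2, mul_self_eq_one hc, fun s hs =>
    congrArg Subtype.val (mem_center_iff.1 c.2 ⟨s, hs⟩)⟩, ne_one_of_involution hc⟩

/-- **The classification**, given the characterisation of `PSU(3,4)` by its Sylow 2-subgroups. -/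
theorem structure_theorem [IsSimpleGroup G] (main : CriterionMain.{u})
    (hGW : GWCons.RankOneCover.DihedralClassification.{u}) (hU : UnitaryFour.{u})
    (hR : RankOneInter G) (hG : ¬ IsMulCommutative G) : FiveTypes G := by
  haveI : Fact (Nat.Prime 2) := ⟨Nat.prime_two⟩
  obtain ⟨S⟩ : Nonempty (Sylow 2 G) := inferInstance
  obtain ⟨z₀, hz₀, hz₀1⟩ := exists_omegaZ hG S
  by_cases hle : ∀ e ∈ omegaZ S, e ≠ 1 →
      centralizer ({e} : Set G) ≤ normalizer ((S : Subgroup G) : Set G)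
  · exact fiveTypes_of_bender (isBenderType_of_cent_le main hR hG S
      (fun e => hz₀1 (by rw [e, mem_bot] at hz₀; exact hz₀)) hle)
  push Not at hle
  obtain ⟨z, hz, hz1, hnotle⟩ := hle
  have hmove : ∀ e ∈ omegaZ S, e ≠ 1 →
      ∃ n ∈ normalizer ((S : Subgroup G) : Set G), n * e * n⁻¹ ≠ e :=
    fun e he h1 => hR.exists_moving hG he h1
  obtain ⟨n, hn, hnz⟩ := hmove z hz hz1
  set y := n * z * n⁻¹ with hy
  have hyE : y ∈ omegaZ S := conj_mem_omegaZ hn hz
  have hy2 : orderOf y = 2 := (orderOf_conj_eq n z).trans (orderOf_of_mem_omegaZ hz hz1)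
  by_cases hall : ∀ x ∈ (S : Subgroup G), orderOf x = 2 → x = z ∨ x = y ∨ x = z * y
  · let F := GaloisField 2 4
    letI : Fintype F := Fintype.ofFinite _
    have hF : Fintype.card F = 16 := by
      rw [← Nat.card_eq_fintype_card, GaloisField.card 2 4 (by norm_num)]; norm_num
    let P : Sylow 2 (Cfsg.PSU 3 F 4) := Classical.arbitrary _
    rcases types_of_three hGW hF P hG hz hz1 hmove hn hnz hall with h | h
    · exact fiveTypes_of_pslTwo h
    · refine Or.inr (Or.inr (Or.inl ⟨2, F, inferInstance, inferInstance, le_rfl, ?_, ?_⟩))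
      · rw [hF]; norm_num
      · exact hU G F hF S P h
  · push Not at hall
    obtain ⟨x, hx, hx2, hxz, hxy, hxzy⟩ := hall
    have hd : Data S z :=
      { inter := hR
        mem := hz
        ne := hz1
        four := ⟨x, y, hx, hyE.1, hx2, hy2, hxy, hyE.2.2 x hx, hxz, hnz, fun e => hxzy (by
          rw [← e, mul_assoc, hyE.2.1, mul_one])⟩
        notle := hnotle
        moving := hmove }
    rcases hd.five_or_unitary main hU with h5 | ⟨Q, hQ⟩
    · exact Or.inr (Or.inr (Or.inr (Or.inr (hd.isJ1_of_five hG main h5))))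
    · exact (hQ.false_of_unitary main).elim

end CfsgLib.SylInter
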