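import Cfsg.Agent.Lib.SylInter.Bender
import Cfsg.Agent.S1237
import Cfsg.Agent.S1248
import Cfsg.Agent.S0280
import Cfsg.Agent.Lib.RankTwoTypes.Homocyclic

/-!
The Sylow subgroup of the Bender group has three involutions, so it is a four group, and there are
five points, or it is the Sylow 2-subgroup of the three-dimensional unitary group over sixteen elements.
-/

set_option autoImplicit false
set_option linter.style.haveILetI false
set_option linter.unusedSectionVars false

namespace CfsgLib.SylInter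

open Subgroup MulAction CfsgLib.Involutions CfsgLib.StrongCrit

universe u

/-- The characterisation of `PSU(3,4)` by its Sylow 2-subgroups, as a proposition. -/
def UnitaryFour : Prop :=
  ∀ (G : Type u) [Group G] [Finite G] [IsSimpleGroup G] (F : Type) [Field F] [Fintype F],
    Fintype.card F = 16 → ∀ (S : Sylow 2 G) (P : Sylow 2 (Cfsg.PSU 3 F 4)),
    Nonempty ((S : Subgroup G) ≃* (P : Subgroup (Cfsg.PSU 3 F 4))) →
    Nonempty (G ≃* Cfsg.PSU 3 F 4)

variable {G : Type u} [Group G] [Finite G] {S : Sylow 2 G} {z : G}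

/-- The data of the unitary case: the kernel `Q` at `S`, of order 64, and a stabiliser of order
divisible by five. -/
structure UnitaryData (h : Data S z) (Q : Subgroup (Lbar S z)) : Prop where
  kernel : BenderQ.IsKernelAt h.pt Q
  card : Nat.card Q = 64
  sq : ∀ q ∈ Q, (q : Cbar z) * q ∈ omegaBar S z
  five : 5 ∣ Nat.card (stabilizer (Lbar S z) h.pt)

theorem card_psu_three_four {F : Type} [Field F] [Fintype F] (hF : Fintype.card F = 16) :
    Nat.card (Cfsg.PSU 3 F 4) = 62400 := by
  have := Cfsg.Agent.S0280.result (F := F) (q := 4) (by rw [hF]; norm_num) 3 (by norm_num)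
  simp [Finset.prod_range_succ, Nat.even_iff] at this
  omega

namespace Data

variable (h : Data S z)
include h

theorem card_pts {Q : Subgroup (Lbar S z)} (hQ : BenderQ.IsKernelAt h.pt Q) :
    Nat.card (Sylow 2 (Cz z)) = Nat.card Q + 1 := by
  classical
  letI : Fintype (Sylow 2 (Cz z)) := Fintype.ofFinite _
  obtain ⟨y, hy⟩ := h.setting.nontriv h.pt
  let f : Q → {x : Sylow 2 (Cz z) // x ≠ h.pt} := fun q => ⟨(q : Lbar S z) • y, fun e => hy (by
    have := hQ.le q.2
    rw [mem_stabilizer_iff] at this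
    exact MulAction.injective (q : Lbar S z) (e.trans this.symm))⟩
  have hf : Function.Bijective f := by
    refine ⟨fun q q' e => Subtype.ext ?_, fun x => ?_⟩
    · have e' : (q : Lbar S z) • y = (q' : Lbar S z) • y := congrArg Subtype.val e
      exact inv_mul_eq_one.1 (hQ.free _ (mul_mem (inv_mem q.2) q'.2) y hy
        (by rw [mul_smul, ← e', inv_smul_smul]))
    · obtain ⟨g, hg, hgx⟩ := hQ.trans y x.1 hy x.2
      exact ⟨⟨g, hg⟩, Subtype.ext hgx⟩
  rw [Nat.card_congr (Equiv.ofBijective f hf), Nat.card_eq_fintype_card, Nat.card_eq_fintype_card,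
    Fintype.card_subtype_compl, Fintype.card_subtype_eq]
  have := Fintype.card_pos_iff.2 ⟨h.pt⟩
  omega

/-- Five points, or the unitary case. -/
theorem five_or_unitary (main : CriterionMain.{u}) (hU : UnitaryFour.{u}) :
    Nat.card (Sylow 2 (Cz z)) = 5 ∨ ∃ Q : Subgroup (Lbar S z), UnitaryData h Q := by
  haveI : Fact (Nat.Prime 2) := ⟨Nat.prime_two⟩
  have hone := h.oneFix main
  haveI hsimple := (h.lbar_isBenderType main).isSimple
  obtain ⟨Q, hQ⟩ := BenderQ.isKernelAt_of_hasKernelAt
    (BenderQ.benderKernel (Lbar S z) (Sylow 2 (Cz z)) hone lbar_faithful h.hasFour h.pt)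
  obtain ⟨s, t, hs, ht, hs1, ht1, hne, hc, hall⟩ := h.exists_three
  have hinQ : ∀ x : Cbar z, ∀ hx : x ∈ omegaBar S z, (⟨x, h.omegaBar_le_lbar hx⟩ : Lbar S z) ∈ Q := by
    intro x hx
    rcases eq_or_ne x 1 with rfl | h1
    · exact one_mem Q
    · exact hQ.invol_mem hone ((h.invAt_iff main _).2 ⟨hx, h1⟩)
  have hinv : ∀ q : Q, q * q = 1 → ((q : Lbar S z) : Cbar z) ∈ omegaBar S z := by
    intro q hq
    rcases eq_or_ne q 1 with rfl | h1
    · exact one_mem _
    · refine ((h.invAt_iff main _).1 ⟨?_, mem_stabilizer_iff.1 (hQ.le q.2)⟩).1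
      rw [Subgroup.orderOf_coe]
      exact orderOf_eq_two_iff_mul.2 ⟨h1, hq⟩
  have hr2 : Cfsg.PRankLE 2 2 Q := by
    intro A hA hA2
    have := Nat.card_le_card_of_injective
      (fun a : A => (⟨((a : Q) : Lbar S z), hinv a (by rw [← pow_two]; exact hA2 a a.2)⟩ : omegaBar S z))
      (fun a b e => Subtype.ext (Subtype.ext (Subtype.ext (congrArg Subtype.val e :))))
    rw [h.card_omegaBar] at this
    exact this
  have hr1 : ¬ Cfsg.PRankLE 2 1 Q := by
    intro h1
    have hcomm : ∀ x ∈ omegaBar S z, ∀ y ∈ omegaBar S z, x * y = y * x := by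
      intro x hx y hy
      rcases hall x hx with rfl | rfl | rfl | rfl <;> rcases hall y hy with rfl | rfl | rfl | rfl <;>
        simp [hc.eq, mul_assoc] <;> simp [← mul_assoc, hc.eq]
    let f : omegaBar S z →* Q :=
      { toFun := fun x => ⟨_, hinQ x x.2⟩
        map_one' := rfl
        map_mul' := fun _ _ => rfl }
    have hfi : Function.Injective f := fun a b e => Subtype.ext (congrArg (fun q : Q => ((q : Lbar S z) : Cbar z)) e :)
    have := h1 f.range ⟨⟨by
      rintro ⟨_, a, rfl⟩ ⟨_, b, rfl⟩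
      exact Subtype.ext (Subtype.ext (Subtype.ext (hcomm _ a.2 _ b.2)))⟩⟩ (by
      rintro _ ⟨a, rfl⟩
      rw [← map_pow, show a ^ 2 = 1 from ?_, map_one]
      obtain ⟨e, he, hea⟩ := h.mem_omegaBar.1 a.2
      refine Subtype.ext ?_
      rw [pow_two, Subgroup.coe_mul, ← hea, ← map_mul, show e * e = 1 from Subtype.ext he.2.1, map_one]
      rfl)
    rw [← Nat.card_congr (MonoidHom.ofInjective hfi).toEquiv, h.card_omegaBar] at this
    omega
  -- an element of the stabiliser cycling the three involutions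
  obtain ⟨y, hy⟩ := h.setting.nontriv h.pt
  obtain ⟨d, hd, hdst⟩ := hone.exists_conj_invAt (y := y) hy.symm
    ((h.invAt_iff main ⟨s, h.omegaBar_le_lbar hs⟩).2 ⟨hs, hs1⟩)
    ((h.invAt_iff main ⟨t, h.omegaBar_le_lbar ht⟩).2 ⟨ht, ht1⟩)
  have hdp : (d : Cbar z) • h.pt = h.pt := (BenderTrans.mem_two_iff.1 hd).1
  have hds : (d : Cbar z) * s * (d : Cbar z)⁻¹ = t := congrArg Subtype.val hdst
  have hdt : (d : Cbar z) * t * (d : Cbar z)⁻¹ = s * t := by
    rcases hall _ (h.conj_omegaBar hdp ht) with e | e | e | e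
    · exact absurd (by simpa using e) ht1
    · exact absurd (h.not_swap hdp hs hds e) hne
    · exfalso
      have e' : (d : Cbar z) * t * (d : Cbar z)⁻¹ = (d : Cbar z) * s * (d : Cbar z)⁻¹ := by rw [e, hds]
      exact hne (mul_left_cancel (mul_right_cancel e')).symm
    · exact e
  have hss : s * s = 1 := by
    obtain ⟨e, he, rfl⟩ := h.mem_omegaBar.1 hs
    rw [← map_mul, show e * e = 1 from Subtype.ext he.2.1, map_one]
  have htt : t * t = 1 := by
    obtain ⟨e, he, rfl⟩ := h.mem_omegaBar.1 ht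
    rw [← map_mul, show e * e = 1 from Subtype.ext he.2.1, map_one]
  have hdu : (d : Cbar z) * (s * t) * (d : Cbar z)⁻¹ = s := by
    rw [← conj_mul, hds, hdt, hc.eq, ← mul_assoc, htt, one_mul]
  have hdN : d ∈ normalizer (Q : Set (Lbar S z)) := by
    rw [hQ.normalizer_eq hone]
    exact (mem_inf.1 hd).1
  let φ : MulAut Q := Subgroup.normalizerMonoidHom Q ⟨d, hdN⟩
  have hφ : ∀ (q : Q), (((φ q : Q) : Lbar S z) : Cbar z) =
      (d : Cbar z) * ((q : Lbar S z) : Cbar z) * (d : Cbar z)⁻¹ := fun q => rfl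
  have hcast : ∀ a : Q, orderOf a = 2 →
      ((a : Lbar S z) : Cbar z) = s ∨ ((a : Lbar S z) : Cbar z) = t ∨
        ((a : Lbar S z) : Cbar z) = s * t := by
    intro a ha
    rcases hall _ (hinv a (mul_self_eq_one ha)) with e | e | e | e
    · exact absurd (Subtype.ext (Subtype.ext e)) (ne_one_of_involution ha)
    · exact Or.inl e
    · exact Or.inr (Or.inl e)
    · exact Or.inr (Or.inr e)
  have htrans : ∀ a b : Q, orderOf a = 2 → orderOf b = 2 → ∃ k : ℕ, (φ ^ k) a = b := by
    intro a b ha hb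
    have h1 : ((φ a : Q) : Lbar S z).1 =
        (d : Cbar z) * ((a : Lbar S z) : Cbar z) * (d : Cbar z)⁻¹ := hφ a
    have h2 : (((φ ^ 2) a : Q) : Lbar S z).1 =
        (d : Cbar z) * ((d : Cbar z) * ((a : Lbar S z) : Cbar z) * (d : Cbar z)⁻¹) *
          (d : Cbar z)⁻¹ := by
      rw [pow_two, MulAut.mul_apply, hφ, hφ]
    have key : ∀ (k : ℕ), (((φ ^ k) a : Q) : Lbar S z).1 = ((b : Lbar S z) : Cbar z) →
        ∃ k : ℕ, (φ ^ k) a = b := fun k e => ⟨k, Subtype.ext (Subtype.ext e)⟩
    rcases hcast a ha with ea | ea | ea <;> rcases hcast b hb with eb | eb | eb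
    · exact key 0 (by simp [ea, eb])
    · exact key 1 (by rw [pow_one, h1, ea, hds, eb])
    · exact key 2 (by rw [h2, ea, hds, hdt, eb])
    · exact key 2 (by rw [h2, ea, hdt, hdu, eb])
    · exact key 0 (by simp [ea, eb])
    · exact key 1 (by rw [pow_one, h1, ea, hdt, eb])
    · exact key 1 (by rw [pow_one, h1, ea, hdu, eb])
    · exact key 2 (by rw [h2, ea, hdu, hds, eb])
    · exact key 0 (by simp [ea, eb])
  let F := GaloisField 2 4
  letI : Fintype F := Fintype.ofFinite _
  have hF : Fintype.card F = 16 := by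
    rw [← Nat.card_eq_fintype_card, GaloisField.card 2 4 (by norm_num)]; norm_num
  let P : Sylow 2 (Cfsg.PSU 3 F 4) := Classical.arbitrary _
  obtain ⟨SL, hSL⟩ := hQ.exists_sylow hone
  rcases Cfsg.Agent.S1237.result hQ.isTwo hr2 hr1 φ htrans hF P with ⟨n, hn, ⟨e⟩⟩ | he
  · rcases Nat.eq_or_lt_of_le hn with h1 | h1
    · subst h1
      refine Or.inl ?_
      rw [h.card_pts hQ, Nat.card_congr e.toEquiv, Nat.card_congr Multiplicative.toAdd, Nat.card_prod,
        Nat.card_zmod]
      norm_num
    · refine (RankTwoTypes.not_homocyclic (fun hcom => ?_) SL h1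
        ((MulEquiv.subgroupCongr hSL).trans e)).elim
      have e1 : d * ⟨s, h.omegaBar_le_lbar hs⟩ = ⟨s, h.omegaBar_le_lbar hs⟩ * d := hcom.is_comm.comm _ _
      rw [e1, mul_inv_cancel_right] at hdst
      exact hne (congrArg Subtype.val hdst)
  · obtain ⟨e⟩ := he
    obtain ⟨h64, -, hcl, -, -, hsq⟩ := Cfsg.Agent.S1248.result hF P
    have hQ64 : Nat.card Q = 64 := (Nat.card_congr e.toEquiv).trans h64
    refine Or.inr ⟨Q, hQ, hQ64, ?_, ?_⟩
    · intro q hq
      -- squares are central, so products of involutions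
      have h1 : e ⟨q, hq⟩ ^ 2 ∈ Subgroup.center (P : Subgroup (Cfsg.PSU 3 F 4)) := by
        rw [← QuotientGroup.eq_one_iff, QuotientGroup.mk_pow]
        exact hsq _
      rw [hcl] at h1
      have h2 : ∀ x ∈ Subgroup.closure {x : (P : Subgroup (Cfsg.PSU 3 F 4)) | orderOf x = 2},
          (((e.symm x : Q) : Lbar S z) : Cbar z) ∈ omegaBar S z := by
        intro x hx
        induction hx using closure_induction with
        | mem w hw =>
          refine hinv _ (mul_self_eq_one ?_)
          rw [MulEquiv.orderOf_eq]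
          exact hw
        | one => simp
        | mul a b _ _ ha hb => simpa [map_mul] using mul_mem ha hb
        | inv a _ ha => simpa [map_inv] using inv_mem ha
      have h3 := h2 _ h1
      rw [map_pow, MulEquiv.symm_apply_apply, pow_two] at h3
      exact h3
    · obtain ⟨f⟩ := hU (Lbar S z) F hF SL P ⟨(MulEquiv.subgroupCongr hSL).trans e⟩
      have hL := (Nat.card_congr f.toEquiv).trans (card_psu_three_four hF)
      have hidx : Nat.card (stabilizer (Lbar S z) h.pt) * 65 = 62400 := by
        rw [← hL, ← (stabilizer (Lbar S z) h.pt).card_mul_index]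
        congr 1
        rw [MulAction.index_stabilizer]
        have horb : MulAction.orbit (Lbar S z) h.pt = Set.univ :=
          Set.eq_univ_of_forall fun T => hone.trans h.pt T
        rw [horb, Set.ncard_univ, h.card_pts hQ, hQ64]
      omega

end Data

end CfsgLib.SylInter
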